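import Mathlib

/-!
The arithmetic of `q^2 - q + 1`.
-/

set_option autoImplicit false

namespace CfsgLib.MinIndexSU3

/-- The order of a Singer torus modulo scalars. -/
def nn (q : ℕ) : ℕ := (q ^ 2 - q + 1) / Nat.gcd 3 (q + 1)

variable {q : ℕ}

theorem cube_add_one (hq : 1 ≤ q) : q ^ 3 + 1 = (q + 1) * (q ^ 2 - q + 1) := by
  have h : q ≤ q ^ 2 := by nlinarith
  zify [h]
  ring

theorem gcd_dvd_n1 : Nat.gcd 3 (q + 1) ∣ q ^ 2 - q + 1 := by
  rcases (Nat.dvd_prime Nat.prime_three).1 (Nat.gcd_dvd_left 3 (q + 1)) with h | h <;> rw [h]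
  · exact one_dvd _
  · obtain ⟨t, ht⟩ := h ▸ Nat.gcd_dvd_right 3 (q + 1)
    have h1 : q ≤ q ^ 2 := by nlinarith
    obtain ⟨t, rfl⟩ : ∃ u, t = u + 1 := ⟨t - 1, by omega⟩
    obtain rfl : q = 3 * t + 2 := by omega
    refine ⟨3 * t ^ 2 + 3 * t + 1, ?_⟩
    zify [h1]
    ring

theorem gcd_mul_nn : Nat.gcd 3 (q + 1) * nn q = q ^ 2 - q + 1 := Nat.mul_div_cancel' gcd_dvd_n1

theorem nn_pos : 0 < nn q := by
  refine Nat.pos_of_ne_zero fun h => ?_
  have := gcd_mul_nn (q := q)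
  rw [h, mul_zero] at this
  omega

theorem cast_n1 {R : Type*} [CommRing R] : ((q ^ 2 - q + 1 : ℕ) : R) = (q : R) ^ 2 - q + 1 := by
  have h : q ≤ q ^ 2 := Nat.le_self_pow two_ne_zero q
  push_cast [Nat.cast_sub h]
  ring

theorem res3 : ∀ r : ZMod 3, r ^ 2 - r + 1 = 0 → r = 2 := by decide
theorem res3' : (2 : ZMod 3) + 1 = 0 := by decide
theorem res2 : ∀ r : ZMod 2, r ^ 2 - r + 1 ≠ 0 := by decide
theorem res5 : ∀ r : ZMod 5, r ^ 2 - r + 1 ≠ 0 := by decide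
theorem res11 : ∀ r : ZMod 11, r ^ 2 - r + 1 ≠ 0 := by decide

theorem prime_dvd_nn {l : ℕ} (hl : l.Prime) (h : l ∣ nn q) :
    7 ≤ l ∧ l ≠ 11 ∧ ¬ l ∣ q ∧ ¬ l ∣ q ^ 2 - 1 ∧ ¬ l ∣ q + 1 := by
  have h1 : l ∣ q ^ 2 - q + 1 := h.trans (gcd_mul_nn (q := q) ▸ dvd_mul_left _ _)
  have := Fact.mk hl
  have hz : (q : ZMod l) ^ 2 - q + 1 = 0 := by
    rw [← cast_n1, ZMod.natCast_eq_zero_iff]
    exact h1
  have h3 : l ≠ 3 := by
    rintro rfl
    -- three divides the quotient only once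
    rcases (Nat.dvd_prime Nat.prime_three).1 (Nat.gcd_dvd_left 3 (q + 1)) with hg | hg
    · have hq : (q : ZMod 3) = 2 := res3 _ hz
      have : 3 ∣ q + 1 := by
        rw [← ZMod.natCast_eq_zero_iff, Nat.cast_add, hq, Nat.cast_one]
        exact res3'
      exact absurd (Nat.dvd_gcd dvd_rfl this) (by rw [hg]; decide)
    · obtain ⟨t, ht⟩ := hg ▸ Nat.gcd_dvd_right 3 (q + 1)
      obtain ⟨t, rfl⟩ : ∃ u, t = u + 1 := ⟨t - 1, by omega⟩
      obtain rfl : q = 3 * t + 2 := by omega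
      have h2 : nn (3 * t + 2) = 3 * t ^ 2 + 3 * t + 1 := by
        have := gcd_mul_nn (q := 3 * t + 2)
        rw [hg] at this
        have h1' : 3 * t + 2 ≤ (3 * t + 2) ^ 2 := Nat.le_self_pow two_ne_zero _
        zify [h1'] at this ⊢
        linarith
      rw [h2] at h
      omega
  have h2 : ¬ l ∣ q := fun hd => by
    rw [(ZMod.natCast_eq_zero_iff _ _).2 hd] at hz
    norm_num at hz
  have h5 : ¬ l ∣ q + 1 := fun hd => by
    have : (q : ZMod l) + 1 = 0 := by rw [← Nat.cast_one, ← Nat.cast_add, ZMod.natCast_eq_zero_iff]; exact hd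
    have h3' : ((3 : ℕ) : ZMod l) = 0 := by push_cast; linear_combination hz - (q - 2 : ZMod l) * this
    rw [ZMod.natCast_eq_zero_iff] at h3'
    exact h3 ((Nat.prime_dvd_prime_iff_eq hl Nat.prime_three).1 h3')
  have h6 : ¬ l ∣ q ^ 2 - 1 := fun hd => by
    rw [show q ^ 2 - 1 = (q + 1) * (q - 1) by rw [← Nat.sq_sub_sq, one_pow]] at hd
    rcases hl.dvd_mul.1 hd with h' | h'
    · exact h5 h'
    · rcases Nat.eq_zero_or_pos q with rfl | hq
      · exact h2 (dvd_zero _)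
      have : ((q - 1 : ℕ) : ZMod l) = 0 := (ZMod.natCast_eq_zero_iff _ _).2 h'
      rw [Nat.cast_sub hq, Nat.cast_one] at this
      exact one_ne_zero (α := ZMod l) (by linear_combination hz - (q : ZMod l) * this)
  refine ⟨?_, ?_, h2, h6, h5⟩
  · by_contra hlt
    push Not at hlt
    have h2l := hl.two_le
    interval_cases l
    · exact res2 _ hz
    · exact h3 rfl
    · norm_num at hl
    · exact res5 _ hz
    · norm_num at hl
  · rintro rfl
    exact res11 _ hz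

theorem two_le_or_thirteen {l l' : ℕ} (hl : l.Prime) (h : l ∣ nn q) (hl' : l'.Prime) (h' : l' ∣ nn q)
    (hne : l ≠ l') : 13 ≤ l ∨ 13 ≤ l' := by
  obtain ⟨a1, a2, -⟩ := prime_dvd_nn hl h
  obtain ⟨b1, b2, -⟩ := prime_dvd_nn hl' h'
  by_contra hc
  push Not at hc
  obtain ⟨ha, hb⟩ := hc
  interval_cases l <;> interval_cases l' <;> first | omega | (revert hl hl'; norm_num)

/-- The congruence left by a semiregular action. -/
theorem congr_of_index {s n e c p L j : ℕ} (hq : 1 ≤ q) (hs : s ∣ q ^ 2 - q + 1) (hn : s ∣ n - 1) (hn1 : 1 ≤ n)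
    (hne : n * e = (q + 1) * j * p * L) (hc : c * L = q ^ 2 - 1) : s ∣ e * c + 3 * (p * j) := by
  rw [← ZMod.natCast_eq_zero_iff] at hs hn ⊢
  rw [Nat.cast_sub hn1, Nat.cast_one, sub_eq_zero] at hn
  rw [cast_n1] at hs
  have h1 := congrArg (fun x : ℕ => (x : ZMod s)) hne
  have h2 := congrArg (fun x : ℕ => (x : ZMod s)) hc
  push_cast [Nat.cast_sub (Nat.one_le_pow 2 q hq), hn] at h1 h2 ⊢
  linear_combination (c : ZMod s) * h1 + ((q : ZMod s) + 1) * j * p * h2 + ((q : ZMod s) + 2) * j * p * hs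

end CfsgLib.MinIndexSU3
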