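import Cfsg.Agent.Lib.MinIndexSU3.Torus

/-!
Counting the elements of a transitive subgroup by their fixed isotropic points.
-/

set_option autoImplicit false
set_option linter.unusedSectionVars false

namespace CfsgLib.MinIndexSU3

open Matrix Cfsg CfsgLib.Classical.Herm CfsgLib.Classical.Elation CfsgLib.MinIndexSU
open CfsgLib.ClassicalAut (Unitary.Conj)

variable {F : Type*} [Field F] [Finite F] {q : ℕ} (K : Unitary.Conj F q)

local notation "V" => (Fin (2 + 1) → F)
local notation "H" => hermForm (2 + 1) F q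
local notation "G" => SU (2 + 1) F q
local notation "Z" => Subgroup.center (SU (2 + 1) F q)

variable (P : HPair (F := F) (q := q) (k := 1)) (M : Subgroup (SU (2 + 1) F q))

/-- Transitivity on the points. -/
def Trans : Prop := ∀ g : G, ∃ m ∈ M, (m : G ⧸ pointStab P) = (g : G ⧸ pointStab P)

/-- The fixed points. -/
def fx (g : G) : Set (G ⧸ pointStab P) := {x | g • x = x}

/-- The elements with a fixed point. -/
def anyFix : Set G := {g | g ∈ M ∧ (fx P g).Nonempty}

/-- The elements at the base point fixing three points. -/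
def threeFix : Set G := {g | g ∈ M ∧ g ∈ pointStab P ∧ 3 ≤ (fx P g).ncard}

theorem mem_fx_coe {g k : G} : (k : G ⧸ pointStab P) ∈ fx P g ↔ k⁻¹ * g * k ∈ pointStab P := by
  show g • (k : G ⧸ pointStab P) = k ↔ _
  rw [MulAction.Quotient.smul_coe, smul_eq_mul, eq_comm, QuotientGroup.eq]
  simp [mul_assoc]

theorem fx_conj (g m : G) : fx P (m * g * m⁻¹) = (m • ·) '' fx P g := by
  ext x
  constructor
  · intro (h : (m * g * m⁻¹) • x = x)
    refine ⟨m⁻¹ • x, ?_, smul_inv_smul m x⟩
    show g • m⁻¹ • x = m⁻¹ • x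
    conv_rhs => rw [← h, mul_smul, mul_smul, inv_smul_smul]
  · rintro ⟨y, (hy : g • y = y), rfl⟩
    show (m * g * m⁻¹) • m • y = m • y
    rw [mul_smul, mul_smul, inv_smul_smul, hy]

include K

theorem card_M (htr : Trans P M) : Nat.card M = (q ^ 3 + 1) * Nat.card ↥(M ⊓ pointStab P) := by
  have h : (pointStab P).relIndex M = q ^ 3 + 1 := by
    rw [← index_pointStab K P, Subgroup.relIndex, Subgroup.index_eq_card, Subgroup.index_eq_card]
    refine Nat.card_eq_of_bijective (Quotient.lift (fun g : M => ((g : G) : G ⧸ pointStab P)) ?_) ⟨?_, ?_⟩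
    · intro a b hab
      exact QuotientGroup.eq.2 ((QuotientGroup.leftRel_apply (s := (pointStab P).subgroupOf M)).1 hab :)
    · intro a b e
      induction a using Quotient.inductionOn with | _ a =>
      induction b using Quotient.inductionOn with | _ b =>
      exact Quotient.sound ((QuotientGroup.leftRel_apply (s := (pointStab P).subgroupOf M)).2 (QuotientGroup.eq.1 e :))
    · intro x
      induction x using QuotientGroup.induction_on with | _ g =>
      obtain ⟨m, hm, e⟩ := htr g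
      exact ⟨Quotient.mk _ ⟨m, hm⟩, e⟩
  have h' := relIndex_mul_card (pointStab P) M
  rw [h, inf_comm] at h'
  exact h'.symm

/-- Burnside's count, split at three fixed points. -/
theorem burnside (htr : Trans P M) :
    Nat.card M ≤ 2 * (anyFix P M).ncard + (q ^ 3 + 1) * (threeFix P M).ncard := by
  classical
  let Pairs := Σ x : G ⧸ pointStab P, {g : G // g ∈ M ∧ g • x = x}
  have hrep : ∀ x : G ⧸ pointStab P, ∃ m ∈ M, (m : G ⧸ pointStab P) = x := fun x => by
    induction x using QuotientGroup.induction_on with | _ g => exact htr g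
  choose r hr hrx using hrep
  -- every stabiliser is a conjugate of the one at the base point
  have hconj : ∀ x, ∀ g : G, g • x = x ↔ (r x)⁻¹ * g * r x ∈ pointStab P := fun x g => by
    rw [← mem_fx_coe P, hrx]; rfl
  have hcard : Nat.card Pairs = Nat.card M := by
    rw [card_M K P M htr, Nat.card_congr ((Equiv.sigmaCongrRight fun x =>
      ({ toFun := fun g => ⟨(r x)⁻¹ * g.1 * r x, M.mul_mem (M.mul_mem (M.inv_mem (hr x)) g.2.1) (hr x),
          (hconj x g.1).1 g.2.2⟩
         invFun := fun b => ⟨r x * b.1 * (r x)⁻¹, M.mul_mem (M.mul_mem (hr x) b.2.1) (M.inv_mem (hr x)),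
          (hconj x _).2 (by simpa [mul_assoc] using b.2.2)⟩
         left_inv := fun g => Subtype.ext (by simp [mul_assoc])
         right_inv := fun b => Subtype.ext (by simp [mul_assoc]) } :
        {g : G // g ∈ M ∧ g • x = x} ≃ ↥(M ⊓ pointStab P))).trans (Equiv.sigmaEquivProd _ _)),
      Nat.card_prod, ← Subgroup.index_eq_card, index_pointStab K P]
  rw [← hcard]
  let big := Σ x : G ⧸ pointStab P, {g : {g : G // g ∈ M ∧ g • x = x} // 3 ≤ (fx P g.1).ncard}
  let small := Σ g : anyFix P M, {x : G ⧸ pointStab P // x ∈ fx P g.1 ∧ (fx P g.1).ncard < 3}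
  have hsplit : Nat.card Pairs ≤ Nat.card small + Nat.card big := by
    rw [← Nat.card_sum]
    refine Nat.card_le_card_of_surjective
      (Sum.elim (fun z : small => (⟨z.2.1, z.1.1, z.1.2.1, z.2.2.1⟩ : Pairs)) fun z : big => ⟨z.1, z.2.1⟩) fun p => ?_
    by_cases h : 3 ≤ (fx P p.2.1).ncard
    · exact ⟨Sum.inr ⟨p.1, p.2, h⟩, rfl⟩
    · exact ⟨Sum.inl ⟨⟨p.2.1, p.2.2.1, p.1, p.2.2.2⟩, p.1, p.2.2.2, not_le.1 h⟩, rfl⟩
  have hsmall : Nat.card small ≤ 2 * (anyFix P M).ncard := by
    have : Fintype (anyFix P M) := Fintype.ofFinite _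
    rw [Nat.card_sigma, mul_comm, ← Nat.card_coe_set_eq, Nat.card_eq_fintype_card, ← smul_eq_mul,
      ← Finset.card_univ, ← Finset.sum_const]
    refine Finset.sum_le_sum fun g _ => ?_
    by_cases h : (fx P g.1).ncard < 3
    · refine (Nat.card_le_card_of_injective (fun x : {x : G ⧸ pointStab P // x ∈ fx P g.1 ∧ (fx P g.1).ncard < 3} => (⟨x.1, x.2.1⟩ : fx P g.1)) fun a b e =>
        Subtype.ext (congrArg (fun z : fx P g.1 => (z : G ⧸ pointStab P)) e)).trans ?_
      rw [Nat.card_coe_set_eq]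
      omega
    · have : IsEmpty {x : G ⧸ pointStab P // x ∈ fx P g.1 ∧ (fx P g.1).ncard < 3} := ⟨fun x => h x.2.2⟩
      simp
  have hbig : Nat.card big = (q ^ 3 + 1) * (threeFix P M).ncard := by
    have hn : ∀ x g, (fx P ((r x)⁻¹ * g * r x)).ncard = (fx P g).ncard := fun x g => by
      have := fx_conj P g (r x)⁻¹
      rw [inv_inv] at this
      rw [this, Set.ncard_image_of_injective _ (MulAction.injective _)]
    rw [Nat.card_congr ((Equiv.sigmaCongrRight fun x =>
      ({ toFun := fun g => ⟨(r x)⁻¹ * g.1.1 * r x, M.mul_mem (M.mul_mem (M.inv_mem (hr x)) g.1.2.1) (hr x),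
          (hconj x g.1.1).1 g.1.2.2, by rw [hn]; exact g.2⟩
         invFun := fun b => ⟨⟨r x * b.1 * (r x)⁻¹, M.mul_mem (M.mul_mem (hr x) b.2.1) (M.inv_mem (hr x)),
          (hconj x _).2 (by simpa [mul_assoc] using b.2.2.1)⟩, by
            rw [← hn x (r x * b.1 * (r x)⁻¹)]; simpa [mul_assoc] using b.2.2.2⟩
         left_inv := fun g => Subtype.ext (Subtype.ext (by simp [mul_assoc]))
         right_inv := fun b => Subtype.ext (by simp [mul_assoc]) } :
        {g : {g : G // g ∈ M ∧ g • x = x} // 3 ≤ (fx P g.1).ncard} ≃ threeFix P M)).trans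
        (Equiv.sigmaEquivProd _ _)),
      Nat.card_prod, ← Subgroup.index_eq_card, index_pointStab K P, Nat.card_coe_set_eq]
  omega

/-- An element fixing three points has scalar of norm one, and is scalar if that is a cube root of one. -/
theorem three_shape {g : G} (hg : g ∈ pointStab P) (h3 : 3 ≤ (fx P g).ncard) :
    chi P ⟨g, hg⟩ * K.bar (chi P ⟨g, hg⟩) = 1 ∧ (chi P ⟨g, hg⟩ ^ 3 = 1 → g ∈ Z) := by
  classical
  set a := chi P ⟨g, hg⟩ with ha
  have hgv : app g P.v = a • P.v := chi_spec P ⟨g, hg⟩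
  set o : G ⧸ pointStab P := ((1 : G) : G ⧸ pointStab P)
  have hoth : 2 ≤ (fx P g \ {o}).ncard := by
    have := Set.le_ncard_sdiff {o} (fx P g)
    rw [Set.ncard_singleton] at this
    omega
  obtain ⟨x, y, hx, hy, hxy⟩ := (Set.one_lt_ncard_iff (Set.toFinite _)).1 (show 1 < (fx P g \ {o}).ncard by omega)
  induction x using QuotientGroup.induction_on with | _ k =>
  induction y using QuotientGroup.induction_on with | _ l =>
  have hk : k ∉ pointStab P := fun h => hx.2 (QuotientGroup.eq.2 (by simpa using h))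
  have hl : l ∉ pointStab P := fun h => hy.2 (QuotientGroup.eq.2 (by simpa using h))
  obtain ⟨b, hb⟩ := (mem_fx_coe P).1 hx.1
  obtain ⟨c, hc⟩ := (mem_fx_coe P).1 hy.1
  have hbk : app g (app k P.v) = b • app k P.v := by
    rw [← app_smul, ← hb, ← app_mul, ← app_mul]; congr 1; group
  have hcl : app g (app l P.v) = c • app l P.v := by
    rw [← app_smul, ← hc, ← app_mul, ← app_mul]; congr 1; group
  have key : ∀ {s t : V} {α β : F}, app g s = α • s → app g t = β • t → H s t ≠ 0 → α * K.bar β = 1 := by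
    intro s t α β h1 h2 hne
    have h := h_app g s t
    rw [h1, h2, h_smul_left K, h_smul_right K, ← mul_assoc] at h
    exact mul_right_cancel₀ hne (h.trans (one_mul _).symm)
  have e1 := key hbk hgv fun e => hk ((mem_pointStab_iff K P).2 e)
  have e2 := key hcl hgv fun e => hl ((mem_pointStab_iff K P).2 e)
  have e3 := key hbk hcl fun e => hxy (QuotientGroup.eq.2 (by
    have h : l⁻¹ * k ∈ pointStab P := (mem_pointStab_iff K P).2 (by rw [app_mul, ← h_app l, app_inv']; exact e)
    simpa using (pointStab P).inv_mem h))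
  have hbc : b = c := by
    have hb0 : K.bar a ≠ 0 := right_ne_zero_of_mul_eq_one e1
    exact mul_right_cancel₀ hb0 (e1.trans e2.symm)
  rw [← hbc] at e3
  have hab : a = b := by
    have h := congrArg K.bar e1
    rw [map_mul, K.bar_bar, map_one] at h
    exact mul_left_cancel₀ (left_ne_zero_of_mul_eq_one h) (h.trans ((mul_comm _ _).trans e3).symm)
  refine ⟨hab ▸ e3, fun h3' => ?_⟩
  have hne : H (app k P.v) P.v ≠ 0 := fun e => hk ((mem_pointStab_iff K P).2 e)
  obtain ⟨s, hs, hsu⟩ := exists_rad_u K P (y := (H (app k P.v) P.v)⁻¹ • app k P.v)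
    (by rw [h_smul_left K, h_smul_right K, h_app, P.hv, mul_zero, mul_zero])
    (by rw [h_smul_left K, inv_mul_cancel₀ hne])
  obtain ⟨x, t, hsg⟩ := id hs
  have hsv := app_self K hsg
  set m := s⁻¹ * g * s with hm
  have hmv : app m P.v = a • P.v := by
    refine app_injective s ?_
    rw [hm, ← app_mul, show s * (s⁻¹ * g * s) = g * s by group, app_mul, hsv, hgv, app_smul, hsv]
  have hmu : app m P.u = a • P.u := by
    refine app_injective s ?_
    rw [hm, ← app_mul, show s * (s⁻¹ * g * s) = g * s by group, app_mul, hsu, app_smul, hbk, app_smul, hsu,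
      smul_comm, hab]
  have hmw := (levi_shape K P hmv ⟨⟨a, hmv⟩, a, hmu⟩).2
  have hba : K.bar a = a⁻¹ := eq_inv_of_mul_eq_one_right (hab ▸ e3)
  have hwa : K.bar a * a⁻¹ = a := by
    have ha0 : a ≠ 0 := left_ne_zero_of_mul_eq_one (hab ▸ e3)
    rw [hba]
    field_simp
    linear_combination -h3'
  rw [hwa] at hmw
  have hmZ : m ∈ Z := (center_iff3 K).2 ⟨a, fun y => by
    conv_lhs => rw [decomp3 K P y]
    conv_rhs => rw [decomp3 K P y]
    simp only [app_add, app_smul, hmv, hmu, hmw, smul_add, smul_smul]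
    rw [mul_comm (H y P.u), mul_comm (H y P.v), mul_comm (H y wv)]⟩
  have := (inferInstance : (Z).Normal).conj_mem m hmZ s
  rwa [hm, show s * (s⁻¹ * g * s) * s⁻¹ = g by group] at this

/-- The scalars at the point of the elements in the subgroup. -/
noncomputable def chiM : ↥(M ⊓ pointStab P) →* Fˣ :=
  MonoidHom.toHomUnits ((chi P).comp (Subgroup.inclusion inf_le_right))

omit K in
theorem chiM_val (g : ↥(M ⊓ pointStab P)) : (chiM P M g : F) = chi P ⟨(g : G), g.2.2⟩ := rfl

theorem card_ker : Nat.card (chiM P M).ker = Nat.card ↥(M ⊓ rad K P) := by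
  refine Nat.card_eq_of_bijective (fun g => (⟨((g : ↥(M ⊓ pointStab P)) : G), g.1.2.1,
    (chi_eq_one_iff K P ⟨_, g.1.2.2⟩).1 (congrArg Units.val g.2)⟩ : ↥(M ⊓ rad K P))) ⟨fun a b e =>
      Subtype.ext (Subtype.ext (congrArg Subtype.val e :)), fun g => ?_⟩
  exact ⟨⟨⟨g, g.2.1, rad_le K P g.2.2⟩, Units.ext ((chi_eq_one_iff K P ⟨g, rad_le K P g.2.2⟩).2 g.2.2)⟩, rfl⟩

theorem card_MB : Nat.card ↥(M ⊓ pointStab P) = Nat.card ↥(M ⊓ rad K P) * Nat.card (chiM P M).range := by
  rw [← card_ker K P M, ← Subgroup.index_ker, Subgroup.card_mul_index]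

theorem range_dvd : Nat.card (chiM P M).range ∣ q ^ 2 - 1 := by
  rw [← K.card, ← Nat.card_units]
  exact Subgroup.card_subgroup_dvd_card _

/-- The elements with a given scalar at the point. -/
theorem card_fibre (a : F) :
    {g : G | ∃ hg : g ∈ M ⊓ pointStab P, chi P ⟨g, hg.2⟩ = a}.ncard ≤ Nat.card ↥(M ⊓ rad K P) := by
  rw [← card_ker K P M, ← Nat.card_coe_set_eq]
  rcases Set.eq_empty_or_nonempty {g : G | ∃ hg : g ∈ M ⊓ pointStab P, chi P ⟨g, hg.2⟩ = a} with he | ⟨g₀, hg₀, e₀⟩
  · rw [he, Nat.card_coe_set_eq, Set.ncard_empty]; exact Nat.zero_le _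
  refine Nat.card_le_card_of_injective (fun g => (⟨(⟨g₀, hg₀⟩ : ↥(M ⊓ pointStab P))⁻¹ * ⟨g.1, g.2.1⟩, ?_⟩ :
    (chiM P M).ker)) fun x y e => ?_
  · obtain ⟨h, e⟩ := g.2
    rw [MonoidHom.mem_ker, map_mul, map_inv, inv_mul_eq_one]
    exact Units.ext ((chiM_val P M _).trans (e₀.trans e.symm))
  · exact Subtype.ext (congrArg (fun z : ↥(M ⊓ pointStab P) => (z : G)) (mul_left_cancel (congrArg Subtype.val e :)))

/-- A bound through the scalars at the point. -/
theorem card_three_le (S : Set F) (d : ℕ) (Z' : Set G) (hZ' : Z'.ncard ≤ d)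
    (hS : ∀ g ∈ threeFix P M, g ∉ Z' → ∀ hg : g ∈ pointStab P, chi P ⟨g, hg⟩ ∈ S) :
    (threeFix P M).ncard ≤ S.ncard * Nat.card ↥(M ⊓ rad K P) + d := by
  classical
  set T : Finset F := (Set.toFinite S).toFinset
  have hsub : threeFix P M ⊆ (⋃ a ∈ T, {g : G | ∃ hg : g ∈ M ⊓ pointStab P, chi P ⟨g, hg.2⟩ = a}) ∪ Z' := by
    intro g hg
    by_cases h : g ∈ Z'
    · exact Or.inr h
    · refine Or.inl (Set.mem_iUnion₂.2 ⟨chi P ⟨g, hg.2.1⟩, ?_, ⟨hg.1, hg.2.1⟩, rfl⟩)
      exact (Set.Finite.mem_toFinset _).2 (hS g hg h hg.2.1)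
  refine (Set.ncard_le_ncard hsub (Set.toFinite _)).trans ((Set.ncard_union_le _ _).trans (Nat.add_le_add ?_ hZ'))
  refine (Finset.set_ncard_biUnion_le _ _).trans ?_
  rw [Set.ncard_eq_toFinset_card S, ← smul_eq_mul, ← Finset.sum_const]
  exact Finset.sum_le_sum fun a _ => card_fibre K P M a

end CfsgLib.MinIndexSU3
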