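import Mathlib

/-!
Three-by-three matrices without an eigenvector: the commutant is a field of polynomials.
-/

set_option autoImplicit false
set_option linter.unusedSectionVars false

namespace CfsgLib.MinIndexSU3.Cubic

open Matrix Polynomial

variable {F : Type*} [Field F] [Finite F] {A : Matrix (Fin 3) (Fin 3) F}

/-- The matrix has no eigenvector. -/
def NoEig (A : Matrix (Fin 3) (Fin 3) F) : Prop := ∀ (a : F) (v : Fin 3 → F), A *ᵥ v = a • v → v = 0

theorem irreducible (hA : NoEig A) : Irreducible A.charpoly := by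
  have hd : A.charpoly.natDegree = 3 := by rw [charpoly_natDegree_eq_dim, Fintype.card_fin]
  rw [irreducible_iff_roots_eq_zero_of_degree_le_three (by omega) (by omega)]
  refine Multiset.eq_zero_of_forall_notMem fun a ha => ?_
  have h : A.charpoly.eval a = 0 := (mem_roots (charpoly_monic A).ne_zero).1 ha
  rw [Matrix.eval_charpoly] at h
  obtain ⟨v, hv0, hv⟩ := Matrix.exists_mulVec_eq_zero_iff.2 h
  refine hv0 (hA a v ?_)
  rw [sub_mulVec, sub_eq_zero] at hv
  rw [← hv]
  funext i
  simp [Matrix.scalar_apply, mulVec_diagonal]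

theorem dichotomy (hA : NoEig A) (p : F[X]) :
    (A.charpoly ∣ p ∧ aeval A p = 0) ∨ IsUnit (aeval A p) := by
  by_cases h : A.charpoly ∣ p
  · refine Or.inl ⟨h, ?_⟩
    obtain ⟨r, rfl⟩ := h
    rw [map_mul, Matrix.aeval_self_charpoly, zero_mul]
  · obtain ⟨u, v, huv⟩ := ((irreducible hA).coprime_iff_not_dvd).2 h
    refine Or.inr (IsUnit.of_mul_eq_one_right (aeval A v) ?_)
    have := congrArg (aeval A) huv
    rw [map_add, map_mul, map_mul, Matrix.aeval_self_charpoly, mul_zero, zero_add, map_one] at this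
    exact this

theorem dvd_of_aeval (hA : NoEig A) {p : F[X]} (h : aeval A p = 0) : A.charpoly ∣ p :=
  (dichotomy hA p).elim And.left fun hu => absurd (h ▸ hu) not_isUnit_zero

/-- A commuting matrix is a polynomial. -/
theorem exists_poly (hA : NoEig A) {Y : Matrix (Fin 3) (Fin 3) F} (hY : Y * A = A * Y) :
    ∃ p : F[X], Y = aeval A p := by
  classical
  set v : Fin 3 → F := Pi.single 0 1
  have hv : v ≠ 0 := fun e => by simpa [v] using congrFun e 0
  let φ : (Fin 3 → F) → (Fin 3 → F) := fun c => aeval A (C (c 0) + C (c 1) * X + C (c 2) * X ^ 2) *ᵥ v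
  have hφ : Function.Injective φ := by
    intro c c' e
    set k : F[X] := C (c 0 - c' 0) + C (c 1 - c' 1) * X + C (c 2 - c' 2) * X ^ 2 with hk
    have h0 : aeval A k *ᵥ v = 0 := by
      rw [show k = (C (c 0) + C (c 1) * X + C (c 2) * X ^ 2) - (C (c' 0) + C (c' 1) * X + C (c' 2) * X ^ 2) by
        rw [hk]; simp only [map_sub]; ring, map_sub, sub_mulVec, sub_eq_zero]
      exact e
    rcases dichotomy hA k with ⟨hd, -⟩ | hu
    · have hz : k = 0 := Polynomial.eq_zero_of_dvd_of_natDegree_lt hd (by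
        rw [charpoly_natDegree_eq_dim, Fintype.card_fin, hk]
        have : (C (c 0 - c' 0) + C (c 1 - c' 1) * X + C (c 2 - c' 2) * X ^ 2).natDegree ≤ 2 := by
          compute_degree
        omega)
      have h1 := congrArg (fun k => k.coeff 0) hz
      have h2 := congrArg (fun k => k.coeff 1) hz
      have h3 := congrArg (fun k => k.coeff 2) hz
      simp [hk, coeff_X_pow, coeff_C, coeff_X, sub_eq_zero, sub_mul] at h1 h2 h3
      funext i
      fin_cases i <;> assumption
    · exact absurd (Matrix.mulVec_injective_iff_isUnit.2 hu (h0.trans (mulVec_zero _).symm)) hv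
  obtain ⟨c, hc⟩ := Finite.injective_iff_surjective.1 hφ (Y *ᵥ v)
  refine ⟨C (c 0) + C (c 1) * X + C (c 2) * X ^ 2, ?_⟩
  set p := C (c 0) + C (c 1) * X + C (c 2) * X ^ 2
  refine Matrix.ext_of_mulVec_single fun i => ?_
  obtain ⟨d, hd⟩ := Finite.injective_iff_surjective.1 hφ (Pi.single i 1)
  rw [← hd]
  show Y *ᵥ (aeval A _ *ᵥ v) = aeval A p *ᵥ (aeval A _ *ᵥ v)
  set k := C (d 0) + C (d 1) * X + C (d 2) * X ^ 2
  have hc' : aeval A p *ᵥ v = Y *ᵥ v := hc
  have hcomm : Commute Y (aeval A k) := by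
    have h1 : Commute Y A := hY
    exact (Algebra.commute_of_mem_adjoin_singleton_of_commute
      (Polynomial.aeval_mem_adjoin_singleton F A) h1)
  rw [mulVec_mulVec, hcomm.eq, ← mulVec_mulVec, ← hc', mulVec_mulVec, mulVec_mulVec, ← map_mul, ← map_mul,
    mul_comm]

theorem commute_of_commute (hA : NoEig A) {Y Z : Matrix (Fin 3) (Fin 3) F} (hY : Y * A = A * Y)
    (hZ : Z * A = A * Z) : Y * Z = Z * Y := by
  obtain ⟨p, rfl⟩ := exists_poly hA hY
  obtain ⟨r, rfl⟩ := exists_poly hA hZ
  rw [← map_mul, ← map_mul, mul_comm]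

theorem aeval_sub_C (p : F[X]) (a : F) : aeval A (p - C a) = aeval A p - a • 1 := by
  rw [map_sub, aeval_C, Algebra.algebraMap_eq_smul_one]

/-- A commuting matrix is scalar or has no eigenvector. -/
theorem noEig_of_commute (hA : NoEig A) {Y : Matrix (Fin 3) (Fin 3) F} (hY : Y * A = A * Y)
    (hs : ∀ a : F, Y ≠ a • 1) : NoEig Y := by
  intro a v hv
  obtain ⟨p, rfl⟩ := exists_poly hA hY
  rcases dichotomy hA (p - C a) with ⟨-, h⟩ | h
  · rw [aeval_sub_C, sub_eq_zero] at h
    exact absurd h (hs a)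
  · rw [aeval_sub_C] at h
    refine Matrix.mulVec_injective_iff_isUnit.2 h (Eq.trans ?_ (mulVec_zero _).symm)
    rw [sub_mulVec, smul_mulVec, one_mulVec, hv, sub_self]

theorem eq_mk_iff (hA : NoEig A) (p r : F[X]) :
    AdjoinRoot.mk A.charpoly p = AdjoinRoot.mk A.charpoly r ↔ aeval A p = aeval A r := by
  rw [AdjoinRoot.mk_eq_mk]
  refine ⟨fun ⟨k, hk⟩ => ?_, fun h => dvd_of_aeval hA (by rw [map_sub, h, sub_self])⟩
  rw [← sub_eq_zero, ← map_sub, hk, map_mul, Matrix.aeval_self_charpoly, zero_mul]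

/-- A commuting matrix fixed by the Frobenius map is scalar. -/
theorem scalar_of_pow (hA : NoEig A) {Y : Matrix (Fin 3) (Fin 3) F} (hY : Y * A = A * Y)
    (hp : Y ^ Nat.card F = Y) : ∃ a : F, Y = a • 1 := by
  classical
  obtain ⟨p, rfl⟩ := exists_poly hA hY
  have := Fact.mk (irreducible hA)
  cases nonempty_fintype F
  set Q := Nat.card F with hQ
  have hQ1 : 1 < Q := Finite.one_lt_card
  set e := AdjoinRoot.mk A.charpoly p with he
  have hroot : e ^ Q = e := by
    rw [he, ← map_pow, eq_mk_iff hA, map_pow]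
    exact hp
  set φ := algebraMap F (AdjoinRoot A.charpoly)
  have hsub : Set.range φ ⊆ {x | x ^ Q = x} := by
    rintro _ ⟨a, rfl⟩
    show φ a ^ Q = φ a
    rw [← map_pow, hQ, Nat.card_eq_fintype_card, FiniteField.pow_card]
  have hne : (X ^ Q - X : (AdjoinRoot A.charpoly)[X]) ≠ 0 := FiniteField.X_pow_card_sub_X_ne_zero _ hQ1
  have hset : {x : AdjoinRoot A.charpoly | x ^ Q = x} = ↑((X ^ Q - X : (AdjoinRoot A.charpoly)[X]).roots.toFinset) := by
    ext x
    simp [mem_roots hne, sub_eq_zero]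
  have hcard : {x : AdjoinRoot A.charpoly | x ^ Q = x}.ncard ≤ (Set.range φ).ncard := by
    rw [hset, Set.ncard_coe_finset, Set.ncard_range_of_injective φ.injective, ← hQ]
    exact (Multiset.toFinset_card_le _).trans ((card_roots' _).trans
      (FiniteField.X_pow_card_sub_X_natDegree_eq _ hQ1).le)
  have hfin : {x : AdjoinRoot A.charpoly | x ^ Q = x}.Finite := hset ▸ Finset.finite_toSet _
  obtain ⟨a, ha⟩ : e ∈ Set.range φ := by rw [Set.eq_of_subset_of_ncard_le hsub hcard hfin]; exact hroot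
  refine ⟨a, ?_⟩
  rw [← Algebra.algebraMap_eq_smul_one, ← aeval_C (x := A), ← eq_mk_iff hA, AdjoinRoot.mk_C]
  exact ha.symm

/-- At most three commuting matrices share the characteristic polynomial. -/
theorem card_roots_le (hA : NoEig A) :
    Nat.card {Y : Matrix (Fin 3) (Fin 3) F // Y * A = A * Y ∧ Y.charpoly = A.charpoly} ≤ 3 := by
  classical
  have := Fact.mk (irreducible hA)
  choose p hp using fun Y : {Y : Matrix (Fin 3) (Fin 3) F // Y * A = A * Y ∧ Y.charpoly = A.charpoly} =>
    exists_poly hA Y.2.1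
  set m := A.charpoly.map (algebraMap F (AdjoinRoot A.charpoly))
  have hm : m ≠ 0 := ((charpoly_monic A).map _).ne_zero
  have hroot : ∀ Y, AdjoinRoot.mk A.charpoly (p Y) ∈ m.roots.toFinset := fun Y => by
    rw [Multiset.mem_toFinset, mem_roots hm, IsRoot, eval_map]
    have h1 : aeval A (A.charpoly.comp (p Y)) = 0 := by
      rw [aeval_comp, ← hp Y]
      have := Matrix.aeval_self_charpoly Y.1
      rwa [Y.2.2] at this
    have h2 := (eq_mk_iff hA (A.charpoly.comp (p Y)) 0).2 (by rw [h1, map_zero])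
    rw [map_zero] at h2
    rw [← aeval_def, ← h2, ← AdjoinRoot.mkₐ_toRingHom]
    exact (aeval_algHom_apply (AdjoinRoot.mkₐ A.charpoly) (p Y) A.charpoly).trans
      (by rw [← Polynomial.comp_eq_aeval]; rfl)
  refine (Nat.card_le_card_of_injective (fun Y => (⟨_, hroot Y⟩ : m.roots.toFinset)) fun Y Z e => ?_).trans ?_
  · refine Subtype.ext ?_
    rw [hp Y, hp Z]
    exact (eq_mk_iff hA _ _).1 (congrArg Subtype.val e)
  · rw [Nat.card_eq_fintype_card, Fintype.card_coe]
    refine (Multiset.toFinset_card_le _).trans ((card_roots' _).trans ?_)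
    rw [natDegree_map, charpoly_natDegree_eq_dim, Fintype.card_fin]

/-- The determinant of a cube root of a scalar. -/
theorem det_of_cube (hA : NoEig A) {a : F} (h : A ^ 3 = a • 1) : A.det = a := by
  have h1 : A.charpoly ∣ X ^ 3 - C a := dvd_of_aeval hA (by
    rw [map_sub, map_pow, aeval_X, aeval_C, Algebra.algebraMap_eq_smul_one, h, sub_self])
  have h2 : X ^ 3 - C a = A.charpoly := Polynomial.eq_of_monic_of_dvd_of_natDegree_le (charpoly_monic A)
    (monic_X_pow_sub_C a three_ne_zero) h1 (by rw [natDegree_X_pow_sub_C, charpoly_natDegree_eq_dim, Fintype.card_fin])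
  rw [det_eq_sign_charpoly_coeff, Fintype.card_fin, ← h2]
  simp
  ring

end CfsgLib.MinIndexSU3.Cubic
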