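import Cfsg.Agent.Lib.MinIndexSU3.Line

/-!
A subgroup transitive on the isotropic points has full, trivial or exceptional transvection groups.
-/

set_option autoImplicit false
set_option linter.unusedSectionVars false

namespace CfsgLib.MinIndexSU3

open Matrix Cfsg CfsgLib.Classical.Herm CfsgLib.Classical.Elation CfsgLib.MinIndexSU
open CfsgLib.ClassicalAut (Unitary.Conj)
open scoped MatrixGroups

/-- A subgroup order of the exceptional shapes. -/
theorem small_cases {p n q s : ℕ} (hp : p.Prime) (hpn : q = p ^ n) (hs : 3 ≤ s) (hsq : s < q) (hdvd : s ∣ q)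
    (h : (q + 1) * s ∣ 48 ∨ (q + 1) * s ∣ 120) : q = 9 ∧ s = 3 := by
  have hm : ∀ a : ℕ, 0 < a → (q + 1) * s ∣ a → (q + 1) * s ∈ Finset.range (a + 1) := fun a ha hd =>
    Finset.mem_range.2 (Nat.lt_succ_of_le (Nat.le_of_dvd ha hd))
  have hq : q < 120 := by
    rcases h with h | h
    · have := Nat.le_of_dvd (by norm_num) h; nlinarith
    · have := Nat.le_of_dvd (by norm_num) h; nlinarith
  have hlist : ∀ q ∈ Finset.range 120, ∀ s ∈ Finset.range 41, 3 ≤ s → s < q → q % s = 0 →
      (48 % ((q + 1) * s) = 0 ∨ 120 % ((q + 1) * s) = 0) → (q = 9 ∧ s = 3) ∨ (q = 15 ∧ s = 3) ∨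
        (q = 39 ∧ s = 3) := by decide +kernel
  have hs41 : s < 41 := by
    rcases h with h | h
    · have := Nat.le_of_dvd (by norm_num) h; nlinarith
    · have := Nat.le_of_dvd (by norm_num) h; nlinarith
  rcases hlist q (Finset.mem_range.2 hq) s (Finset.mem_range.2 hs41) hs hsq (Nat.mod_eq_zero_of_dvd hdvd)
    (h.imp (fun h => Nat.mod_eq_zero_of_dvd h) (fun h => Nat.mod_eq_zero_of_dvd h)) with h' | ⟨rfl, -⟩ | ⟨rfl, -⟩
  · exact h'
  · exfalso
    have h3 : (3 : ℕ) = p := (Nat.prime_dvd_prime_iff_eq Nat.prime_three hp).1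
      (Nat.prime_three.dvd_of_dvd_pow (hpn ▸ (by norm_num : 3 ∣ 15)))
    have h5 : (5 : ℕ) = p := (Nat.prime_dvd_prime_iff_eq Nat.prime_five hp).1
      (Nat.prime_five.dvd_of_dvd_pow (hpn ▸ (by norm_num : 5 ∣ 15)))
    omega
  · exfalso
    have h3 : (3 : ℕ) = p := (Nat.prime_dvd_prime_iff_eq Nat.prime_three hp).1
      (Nat.prime_three.dvd_of_dvd_pow (hpn ▸ (by norm_num : 3 ∣ 39)))
    have hp13 : Nat.Prime 13 := by norm_num
    have h13 : (13 : ℕ) = p := (Nat.prime_dvd_prime_iff_eq hp13 hp).1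
      (hp13.dvd_of_dvd_pow (hpn ▸ (by norm_num : 13 ∣ 39)))
    omega

variable {F : Type*} [Field F] [Finite F] {q : ℕ} (K : Unitary.Conj F q)

local notation "V" => (Fin (2 + 1) → F)
local notation "H" => hermForm (2 + 1) F q
local notation "G" => SU (2 + 1) F q

variable (P : HPair (F := F) (q := q) (k := 1)) (M : Subgroup (SU (2 + 1) F q))

include K

/-- The fixed field. -/
def F₀ : Subfield F := K.bar.toRingHom.eqLocusField (RingHom.id F)

theorem card_F₀ : Nat.card (F₀ K) = q :=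
  (Nat.card_congr (Equiv.subtypeEquivRight fun _ => Iff.rfl)).trans (card_fixed_eq K)

/-- The entries of an element fixing the third vector. -/
theorem entries {g : G} (hg : g ∈ fixW (F := F) (q := q)) :
    app g P.v = H (app g P.v) P.u • P.v + H (app g P.v) P.v • P.u ∧
    app g P.u = H (app g P.u) P.u • P.v + H (app g P.u) P.v • P.u ∧
    H (app g P.v) P.u * H (app g P.u) P.v - H (app g P.u) P.u * H (app g P.v) P.v = 1 ∧
    K.bar (H (app g P.v) P.u) = H (app g P.v) P.u ∧ K.bar (H (app g P.u) P.v) = H (app g P.u) P.v ∧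
    K.bar (H (app g P.u) P.u) = -H (app g P.u) P.u ∧ K.bar (H (app g P.v) P.v) = -H (app g P.v) P.v := by
  have hw : app g (wv : V) = wv := hg
  have hp : ∀ y, H y wv = 0 → H (app g y) wv = 0 := fun y hy => by
    conv_lhs => rw [← hw, h_app, hy]
  have e1 := decomp3 K P (app g P.v)
  rw [hp _ (h_eq_zero_symm K (h_wv_v K P)), zero_smul, add_zero] at e1
  have e2 := decomp3 K P (app g P.u)
  rw [hp _ (h_eq_zero_symm K (h_wv_u K P)), zero_smul, add_zero] at e2
  set α := H (app g P.v) P.u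
  set γ := H (app g P.v) P.v
  set β := H (app g P.u) P.u
  set δ := H (app g P.u) P.v
  have hdet := det_rel K P e1 e2 (e := 1) (by rw [hw, one_smul])
  rw [mul_one] at hdet
  have r1 : α * K.bar γ + γ * K.bar α = 0 := by
    have h := h_perp_expand K P (hp _ (h_eq_zero_symm K (h_wv_v K P))) (app g P.v)
    rw [h_app, P.hv] at h
    exact h.symm
  have r2 : α * K.bar δ + γ * K.bar β = 1 := by
    have h := h_perp_expand K P (hp _ (h_eq_zero_symm K (h_wv_v K P))) (app g P.u)
    rw [h_app, P.hvu] at h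
    exact h.symm
  have r3 : β * K.bar δ + δ * K.bar β = 0 := by
    have h := h_perp_expand K P (hp _ (h_eq_zero_symm K (h_wv_u K P))) (app g P.u)
    rw [h_app, P.hu] at h
    exact h.symm
  have r4 : K.bar α * δ + K.bar γ * β = 1 := by
    have h := congrArg K.bar r2
    rwa [map_add, map_mul, map_mul, K.bar_bar, K.bar_bar, map_one] at h
  refine ⟨e1, e2, hdet, ?_, ?_, ?_, ?_⟩
  · linear_combination α * r4 - K.bar α * hdet - β * r1
  · linear_combination δ * r2 - K.bar δ * hdet - γ * r3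
  · linear_combination α * r3 - K.bar β * hdet - β * r2
  · linear_combination δ * r1 - K.bar γ * hdet - γ * r4

include P in
/-- The action on the line, over the fixed field. -/
theorem exists_hom : ∃ φ : ↥(M ⊓ fixW (F := F) (q := q)) →* SL(2, F₀ K), Function.Injective φ := by
  obtain ⟨θ, hθ0, hθ⟩ := exists_skew K
  have hb : K.bar θ = -θ := eq_neg_of_add_eq_zero_right hθ
  let ent : G → Fin 2 → Fin 2 → F := fun g =>
    ![![H (app g P.v) P.u, θ * H (app g P.u) P.u], ![H (app g P.v) P.v / θ, H (app g P.u) P.v]]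
  have hmem : ∀ g : ↥(M ⊓ fixW (F := F) (q := q)), ∀ i j, ent g i j ∈ F₀ K := fun g i j => by
    obtain ⟨-, -, -, h1, h2, h3, h4⟩ := entries K P g.2.2
    fin_cases i <;> fin_cases j
    · exact h1
    · show K.bar (θ * _) = _
      rw [map_mul, hb, h3]
      exact neg_mul_neg _ _
    · show K.bar (_ / θ) = _
      rw [map_div₀, hb, h4, neg_div_neg_eq]
      rfl
    · exact h2
  let φ₀ : ↥(M ⊓ fixW (F := F) (q := q)) → SL(2, F₀ K) := fun g =>
    ⟨fun i j => ⟨ent g i j, hmem g i j⟩, Subtype.ext (by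
      refine (congrArg Subtype.val (Matrix.det_fin_two _)).trans ?_
      show H (app (g : G) P.v) P.u * H (app (g : G) P.u) P.v -
        θ * H (app (g : G) P.u) P.u * (H (app (g : G) P.v) P.v / θ) = 1
      obtain ⟨-, -, hd, -⟩ := entries K P g.2.2
      field_simp
      linear_combination hd)⟩
  refine ⟨MonoidHom.mk' φ₀ fun a b => Subtype.ext (funext fun i => funext fun j => Subtype.ext ?_), ?_⟩
  · obtain ⟨a1, a2, -⟩ := entries K P a.2.2
    obtain ⟨b1, b2, -⟩ := entries K P b.2.2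
    rw [Matrix.SpecialLinearGroup.coe_mul, Matrix.mul_apply, Fin.sum_univ_two]
    show ent ((a : G) * (b : G)) i j = ent a i 0 * ent b 0 j + ent a i 1 * ent b 1 j
    simp only [ent, app_mul]
    rw [b1, b2]
    simp only [app_add, app_smul, h_add_left K, h_smul_left K, P.hv, P.hu, P.hvu, h_uv K P]
    fin_cases i <;> fin_cases j <;> simp <;> field_simp <;> ring
  · intro a b e
    have e' : ∀ i j, ent a i j = ent b i j := fun i j =>
      congrArg Subtype.val (congrFun (congrFun (congrArg Subtype.val e) i) j)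
    obtain ⟨a1, a2, -⟩ := entries K P a.2.2
    obtain ⟨b1, b2, -⟩ := entries K P b.2.2
    have c1 : H (app (a : G) P.v) P.u = H (app (b : G) P.v) P.u := e' 0 0
    have c2 : θ * H (app (a : G) P.u) P.u = θ * H (app (b : G) P.u) P.u := e' 0 1
    have c3 : H (app (a : G) P.v) P.v / θ = H (app (b : G) P.v) P.v / θ := e' 1 0
    have c4 : H (app (a : G) P.u) P.v = H (app (b : G) P.u) P.v := e' 1 1
    refine Subtype.ext (eq_of_app_eq K P ?_ ?_ ?_)
    · rw [a1, b1, c1, (div_left_inj' hθ0).1 c3]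
    · rw [a2, b2, mul_left_cancel₀ hθ0 c2, c4]
    · exact a.2.2.trans b.2.2.symm

/-- Dickson's theorem on the line. -/
theorem parZ_cases (hM : ∀ g : G, ∃ m ∈ M, (m : G ⧸ pointStab P) = (g : G ⧸ pointStab P)) :
    Nat.card (parZ K P M) = 1 ∨ Nat.card (parZ K P M) = q ∨
      (Nat.card (parZ K P M) = 2 ∧ Even q) ∨ (q = 9 ∧ Nat.card (parZ K P M) = 3) := by
  classical
  set s := Nat.card (parZ K P M) with hsdef
  have hs0 : 0 < s := Nat.card_pos
  by_contra hc
  push Not at hc
  obtain ⟨hs1, hsq, hs2, hs9⟩ := hc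
  have hdvd : s ∣ q := card_parZ_dvd K P M
  have hlt : s < q := lt_of_le_of_ne (card_parZ_le K P M) hsq
  obtain ⟨l, hl, hX⟩ := card_stab_fixW K P M (by omega) hM
  obtain ⟨φ, hφ⟩ := exists_hom K P M
  obtain ⟨p, _⟩ := CharP.exists (F₀ K)
  cases nonempty_fintype (F₀ K)
  obtain ⟨n, hp, hn⟩ := FiniteField.card (F₀ K) p
  rw [← Nat.card_eq_fintype_card, card_F₀ K] at hn
  have := Fact.mk hp
  have hcard := card_F₀ K
  set R := φ.range ⊔ Subgroup.center SL(2, F₀ K) with hR
  set W := R.map SL2.proj with hW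
  have hRdvd : (q + 1) * (s * l) ∣ SL2.dd (F₀ K) * Nat.card W := by
    rw [hW, SL2.card_map_proj le_sup_right, hsdef, ← hX, Nat.card_congr (MonoidHom.ofInjective hφ).toEquiv]
    exact Subgroup.card_dvd_of_le le_sup_left
  have hdd2 : SL2.dd (F₀ K) ∣ 2 := Nat.gcd_dvd_left _ _
  have hco : Nat.Coprime (q + 1) q := by simp
  have hq1 : (q + 1) ∣ SL2.dd (F₀ K) * Nat.card W := (dvd_mul_right _ _).trans hRdvd
  have hsd : s ∣ SL2.dd (F₀ K) * Nat.card W :=
    ((dvd_mul_right s l).trans (dvd_mul_left _ _)).trans hRdvd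
  have hsp : ∃ i, i ≤ (n : ℕ) ∧ s = p ^ i := (Nat.dvd_prime_pow hp).1 (hn ▸ hdvd)
  obtain ⟨i, -, hsi⟩ := hsp
  have hi : 0 < i := Nat.pos_of_ne_zero fun h => hs1 (by rw [hsi, h, pow_zero])
  have hps : p ∣ s := hsi ▸ dvd_pow_self p hi.ne'
  have hs3 : 3 ≤ s := by
    by_contra hlt3
    have hs_two : s = 2 := by omega
    exact hs2 hs_two (even_iff_two_dvd.2 (hs_two ▸ hdvd))
  rcases SL2.dickson_maximal p W with ⟨c, -, hc, hle⟩ | ⟨k, hk⟩ | he | he | he | hsub
  · have h1 := Subgroup.card_dvd_of_le hle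
    rw [SL2.card_normalizer_torus p hc] at h1
    have h2 : s ∣ 2 * 2 * Nat.card (SL2.torus c) := by
      rw [mul_assoc]
      exact hsd.trans (mul_dvd_mul hdd2 h1)
    have h3 : Nat.Coprime s (Nat.card (SL2.torus c)) := by
      rw [hsi]
      refine Nat.Coprime.pow_left _ (hp.coprime_iff_not_dvd.2 fun hd => ?_)
      have hpq : p ∣ q := hn ▸ dvd_pow_self p n.ne_zero
      rcases SL2.card_torus_cases p hc with e | e <;> rw [e, hcard] at hd
      · have h5 : p ∣ q - 1 := hd.trans (Nat.div_dvd_of_dvd (by have := SL2.dd_dvd_pred (F := F₀ K); rwa [hcard] at this))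
        have := K.two_le
        have h6 := Nat.dvd_sub hpq h5
        rw [show q - (q - 1) = 1 by omega, Nat.dvd_one] at h6
        exact hp.one_lt.ne' h6
      · have h5 : p ∣ q + 1 := hd.trans (Nat.div_dvd_of_dvd (by have := SL2.dd_dvd_succ (F := F₀ K); rwa [hcard] at this))
        have h6 := Nat.dvd_sub h5 hpq
        rw [show q + 1 - q = 1 by omega, Nat.dvd_one] at h6
        exact hp.one_lt.ne' h6
    have h4 := Nat.le_of_dvd (by norm_num) (h3.dvd_of_dvd_mul_right h2)
    have hp2 : p = 2 := (Nat.prime_dvd_prime_iff_eq hp Nat.prime_two).1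
      ((hp.dvd_mul.1 (hps.trans (h3.dvd_of_dvd_mul_right h2))).elim id id)
    have hev : Even (Nat.card (F₀ K)) := by
      rw [hcard, hn, hp2]; exact (Nat.even_pow.2 ⟨even_two, n.ne_zero⟩)
    have h7 := hsd.trans (mul_dvd_mul_left _ h1)
    rw [SL2.dd_of_even hev, one_mul] at h7
    have := Nat.le_of_dvd two_pos (h3.dvd_of_dvd_mul_right h7)
    omega
  · have h1 : Nat.card W ∣ Nat.card (SL2.borelPSL (F₀ K)) := by
      rw [← SL2.card_map_conj W k]
      refine Subgroup.card_dvd_of_le ?_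
      rintro _ ⟨h, hh, rfl⟩
      exact hk h hh
    have h2 : q + 1 ∣ q * (q - 1) := by
      have := hq1.trans (mul_dvd_mul_left _ h1)
      rwa [SL2.card_borelPSL, hcard] at this
    have h3 := Nat.le_of_dvd (by omega) (hco.dvd_of_dvd_mul_left h2)
    omega
  iterate 3
    · obtain ⟨e⟩ := he
      have hWc := Nat.card_congr e.toEquiv
      have h1 : (q + 1) * s ∣ 48 ∨ (q + 1) * s ∣ 120 := by
        have h2 : (q + 1) * s ∣ 2 * Nat.card W :=
          ((mul_dvd_mul_left _ (dvd_mul_right s l)).trans hRdvd).trans (mul_dvd_mul_right hdd2 _)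
        rw [hWc] at h2
        try rw [nat_card_alternatingGroup] at h2
        simp [Nat.card_perm, Nat.factorial] at h2
        first
          | exact Or.inl h2
          | exact Or.inr h2
          | exact Or.inl (h2.trans (by norm_num))
          | exact Or.inr (h2.trans (by norm_num))
      exact (hs9 (small_cases hp hn hs3 hlt hdvd h1).1) (small_cases hp hn hs3 hlt hdvd h1).2
  by_cases hWt : W = ⊤
  · -- the whole group: the transvection group is full
    have h1 : Nat.card R = Nat.card (⊤ : Subgroup SL(2, F₀ K)) := by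
      rw [← SL2.card_map_proj (le_sup_right : Subgroup.center SL(2, F₀ K) ≤ R), ← hW, hWt, Subgroup.card_top, Subgroup.card_top,
        CfsgLib.Classical.card_SL_eq_gcd_mul_card_PSL (ι := Fin 2), Fintype.card_fin]
    have h2 : Nat.card R ∣ Nat.card (Subgroup.center SL(2, F₀ K)) * Nat.card φ.range := by
      rw [← relIndex_mul_card (Subgroup.center SL(2, F₀ K)) R,
        inf_eq_left.2 (le_sup_right : Subgroup.center SL(2, F₀ K) ≤ R), hR, Subgroup.relIndex_sup_right, mul_comm]
      exact mul_dvd_mul_left _ ⟨_, (relIndex_mul_card _ _).symm⟩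
    rw [SL2.card_center, h1, Subgroup.card_top, SL2.card_SL_two',
      ← Nat.card_congr (MonoidHom.ofInjective hφ).toEquiv, hX, hcard, ← hsdef] at h2
    have h3 : q ∣ s := by
      have h4 : q ∣ Nat.gcd 2 (q - 1) * l * (q + 1) * s := by
        exact (dvd_mul_right q _).trans (h2.trans (dvd_of_eq (by ring)))
      refine Nat.Coprime.dvd_of_dvd_mul_left ?_ h4
      have hq2 := K.two_le
      have hpred : Nat.Coprime q (q - 1) := by
        have : Nat.Coprime (q - 1 + 1) (q - 1) := by simp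
        rwa [Nat.sub_add_cancel (by omega)] at this
      exact Nat.Coprime.mul_right (Nat.Coprime.mul_right (hpred.coprime_dvd_right (Nat.gcd_dvd_right _ _))
        (hpred.coprime_dvd_right hl)) hco.symm
    exact absurd (Nat.le_antisymm hlt.le (Nat.le_of_dvd hs0 h3)) hsq
  obtain ⟨k, m, hm, hk2, hkm, hor⟩ := SL2.card_subfield_shape hWt hsub
  rw [hcard] at hkm
  have h1 : q + 1 ∣ 2 * (k * ((k - 1) * (k + 1))) := by
    refine hq1.trans (mul_dvd_mul hdd2 ?_)
    rcases hor with e | e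
    · exact e ▸ dvd_mul_left _ _
    · exact dvd_of_eq e
  have hkq : k ^ 2 ∣ q := hkm ▸ pow_dvd_pow k hm
  have h2 : q + 1 ∣ 2 * ((k - 1) * (k + 1)) := by
    refine Nat.Coprime.dvd_of_dvd_mul_left (Nat.Coprime.coprime_dvd_right ((dvd_pow_self k two_ne_zero).trans hkq) hco) ?_
    rwa [mul_left_comm] at h1
  obtain ⟨j, hj⟩ := h2
  have hkle : k ^ 2 ≤ q := Nat.le_of_dvd (by omega) hkq
  have hsq' : (k - 1) * (k + 1) + 1 = k ^ 2 := by
    obtain ⟨t, rfl⟩ : ∃ t, k = t + 1 := ⟨k - 1, by omega⟩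
    rw [Nat.add_sub_cancel]; ring
  have hj1 : j = 1 := by
    rcases j with _ | _ | j
    · rw [mul_zero] at hj; nlinarith
    · rfl
    · nlinarith
  rw [hj1, mul_one] at hj
  have h5 : k ^ 2 ∣ 3 := by
    have h6 : q + 3 = 2 * k ^ 2 := by omega
    exact (Nat.dvd_add_right hkq).1 (h6 ▸ dvd_mul_left _ _)
  have := Nat.le_of_dvd (by norm_num) h5
  nlinarith

end CfsgLib.MinIndexSU3
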