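import Mathlib

/-!
A subgroup that is intransitive on a doubly transitive set of cosets has index at least the number of
those cosets (Fisher's inequality).
-/

set_option autoImplicit false
set_option linter.unusedSectionVars false

namespace CfsgLib.MinIndexSU3

variable {G : Type*} [Group G] [Finite G] (B M : Subgroup G)

/-- The cosets of `M` holding an element that takes the base point to `x`. -/
def blocksAt (x : G ⧸ B) : Set (G ⧸ M) :=
  {z | ∃ g : G, (g : G ⧸ M) = z ∧ g • ((1 : G) : G ⧸ B) = x}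

theorem mem_blocksAt_smul (h : G) (x : G ⧸ B) (z : G ⧸ M) :
    h • z ∈ blocksAt B M (h • x) ↔ z ∈ blocksAt B M x := by
  constructor
  · rintro ⟨g, hg, hx⟩
    refine ⟨h⁻¹ * g, ?_, by rw [mul_smul, hx, inv_smul_smul]⟩
    rw [← smul_eq_mul, ← MulAction.Quotient.smul_coe, hg, inv_smul_smul]
  · rintro ⟨g, rfl, hx⟩
    exact ⟨h * g, rfl, by rw [mul_smul, hx]⟩

theorem card_inter_blocksAt (h : G) (x y : G ⧸ B) :
    (blocksAt B M (h • x) ∩ blocksAt B M (h • y)).ncard = (blocksAt B M x ∩ blocksAt B M y).ncard := by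
  have e : blocksAt B M (h • x) ∩ blocksAt B M (h • y) = (h • ·) '' (blocksAt B M x ∩ blocksAt B M y) := by
    ext z
    constructor
    · rintro ⟨h1, h2⟩
      refine ⟨h⁻¹ • z, ⟨?_, ?_⟩, smul_inv_smul h z⟩
      · rwa [← mem_blocksAt_smul B M h, smul_inv_smul]
      · rwa [← mem_blocksAt_smul B M h, smul_inv_smul]
    · rintro ⟨w, ⟨h1, h2⟩, rfl⟩
      exact ⟨(mem_blocksAt_smul B M h x w).2 h1, (mem_blocksAt_smul B M h y w).2 h2⟩
  rw [e, Set.ncard_image_of_injective _ (MulAction.injective h)]

/-- Fisher's inequality for an intransitive subgroup. -/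
theorem index_le_of_intransitive (h2 : ∀ g h : G, g ∉ B → h ∉ B → ∃ b ∈ B, ((b * g : G) : G ⧸ B) = (h : G ⧸ B))
    (hM : ∃ g : G, ∀ m ∈ M, (m : G ⧸ B) ≠ (g : G ⧸ B)) : B.index ≤ M.index := by
  classical
  have : Fintype (G ⧸ B) := Fintype.ofFinite _
  have : Fintype (G ⧸ M) := Fintype.ofFinite _
  set o : G ⧸ B := ((1 : G) : G ⧸ B) with ho
  -- pairs of distinct points form one orbit
  have hpair : ∀ x y x' y' : G ⧸ B, x ≠ y → x' ≠ y' → ∃ g : G, g • x = x' ∧ g • y = y' := by
    have key : ∀ x y : G ⧸ B, x ≠ y → ∀ w : G ⧸ B, o ≠ w → ∃ g : G, g • o = x ∧ g • w = y := by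
      intro x y hxy w hw
      induction x using QuotientGroup.induction_on with | _ a =>
      induction y using QuotientGroup.induction_on with | _ c =>
      induction w using QuotientGroup.induction_on with | _ e =>
      have he : e ∉ B := fun h => hw (QuotientGroup.eq.2 (by simpa using h))
      have hc : a⁻¹ * c ∉ B := fun h => hxy (QuotientGroup.eq.2 h)
      obtain ⟨b, hb, hbe⟩ := h2 e (a⁻¹ * c) he hc
      refine ⟨a * b, ?_, ?_⟩
      · rw [mul_smul, show b • o = o by
          rw [ho, MulAction.Quotient.smul_coe, smul_eq_mul]; exact QuotientGroup.eq.2 (by simpa using hb)]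
        rw [ho, MulAction.Quotient.smul_coe, smul_eq_mul, mul_one]
      · rw [mul_smul, MulAction.Quotient.smul_coe, smul_eq_mul, hbe, MulAction.Quotient.smul_coe,
          smul_eq_mul, mul_inv_cancel_left]
    intro x y x' y' h h'
    obtain ⟨a, rfl⟩ : ∃ a : G, a • o = x := MulAction.exists_smul_eq G o x
    obtain ⟨g, hg1, hg2⟩ := key x' y' h' (a⁻¹ • y) (fun e => h (by rw [e, smul_inv_smul]))
    exact ⟨g * a⁻¹, by rw [mul_smul, inv_smul_smul, hg1], by rw [mul_smul, hg2]⟩
  set S := blocksAt B M with hS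
  set a := (S o).ncard with ha
  have hSa : ∀ x, (S x ∩ S x).ncard = a := fun x => by
    obtain ⟨g, rfl⟩ := MulAction.exists_smul_eq G o x
    rw [hS, card_inter_blocksAt, Set.inter_self, ha]
  by_cases hN : ∀ y : G ⧸ B, y = o
  · rw [Subgroup.index_eq_card, Nat.card_eq_fintype_card,
      Fintype.card_eq_one_iff.2 ⟨o, hN⟩]
    exact Nat.one_le_iff_ne_zero.2 Subgroup.index_ne_zero_of_finite
  push Not at hN
  obtain ⟨y₀, hy₀⟩ := hN
  set b := (S o ∩ S y₀).ncard with hb
  have hSb : ∀ x y, x ≠ y → (S x ∩ S y).ncard = b := fun x y hxy => by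
    obtain ⟨g, rfl, rfl⟩ := hpair o y₀ x y (Ne.symm hy₀) hxy
    rw [hS, card_inter_blocksAt]
  -- two points do not lie in the same blocks
  have hab : b < a := by
    refine lt_of_le_of_ne (Set.ncard_le_ncard Set.inter_subset_left) fun e => ?_
    obtain ⟨g, hg⟩ := hM
    have h1 : ((1 : G) : G ⧸ M) ∈ S o := ⟨1, rfl, one_smul G o⟩
    have hgo : o ≠ (g : G ⧸ B) := hg 1 M.one_mem
    have h3 : S o ∩ S (g : G ⧸ B) = S o :=
      Set.eq_of_subset_of_ncard_le Set.inter_subset_left (by rw [hSb o _ hgo, ← ha]; exact e.ge)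
    rw [← h3] at h1
    obtain ⟨m, hm, hmg⟩ := h1.2
    have hmM : m ∈ M := by simpa using QuotientGroup.eq.1 hm.symm
    rw [MulAction.Quotient.smul_coe, smul_eq_mul, mul_one] at hmg
    exact hg m hmM hmg
  set v : G ⧸ B → (G ⧸ M → ℚ) := fun x z => if z ∈ S x then 1 else 0 with hv
  have hdot : ∀ x y, ∑ z, v x z * v y z = ((S x ∩ S y).ncard : ℚ) := fun x y => by
    simp only [hv, ite_mul, one_mul, zero_mul, ← ite_and]
    rw [Finset.sum_boole, Set.ncard_eq_toFinset_card']
    congr 2
    ext z
    simp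
  have hli : LinearIndependent ℚ v := by
    refine Fintype.linearIndependent_iff.2 fun f hf => ?_
    have hy : ∀ y, ((a : ℚ) - b) * f y + (b : ℚ) * ∑ x, f x = 0 := fun y => by
      have h0 : ∑ x, f x * ∑ z, v x z * v y z = 0 := by
        simp only [Finset.mul_sum, ← mul_assoc]
        rw [Finset.sum_comm]
        refine Finset.sum_eq_zero fun z _ => ?_
        rw [← Finset.sum_mul]
        have := congrFun hf z
        simp only [Finset.sum_apply, Pi.smul_apply, smul_eq_mul, Pi.zero_apply] at this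
        rw [this, zero_mul]
      rw [← h0, Finset.mul_sum, ← Finset.add_sum_erase _ _ (Finset.mem_univ y),
        ← Finset.add_sum_erase _ (fun x => f x * _) (Finset.mem_univ y), hdot, hSa, ← add_assoc]
      congr 1
      · ring
      · refine Finset.sum_congr rfl fun x hx => ?_
        rw [hdot, hSb x y (Finset.ne_of_mem_erase hx)]
        ring
    have hab' : (0 : ℚ) < (a : ℚ) - b := by
      rw [sub_pos]; exact_mod_cast hab
    have hconst : ∀ y, f y = f o := fun y =>
      mul_left_cancel₀ hab'.ne' (add_right_cancel ((hy y).trans (hy o).symm))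
    intro y
    have h := hy o
    simp only [hconst, Finset.sum_const, nsmul_eq_mul] at h
    have h' : ((a : ℚ) - b + b * (Finset.univ : Finset (G ⧸ B)).card) * f o = 0 := by linear_combination h
    rw [hconst y]
    exact (mul_eq_zero.1 h').resolve_left (by positivity)
  have := hli.fintype_card_le_finrank
  rwa [Module.finrank_fintype_fun_eq_card, ← Nat.card_eq_fintype_card, ← Nat.card_eq_fintype_card,
    ← Subgroup.index_eq_card, ← Subgroup.index_eq_card] at this

end CfsgLib.MinIndexSU3
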