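import Cfsg.Agent.Lib.MinIndexSU.Main
import Cfsg.Agent.Lib.ModuleIndex.UnitaryThreeBounds

/-!
The isotropic points of a three-dimensional Hermitian space and the stabiliser of one of them.
-/

set_option autoImplicit false
set_option linter.unusedSectionVars false

namespace CfsgLib.MinIndexSU3

open Matrix Cfsg CfsgLib.Classical.Herm CfsgLib.Classical.Elation CfsgLib.MinIndexSU
open CfsgLib.ClassicalAut (Unitary.Conj)

variable {F : Type*} [Field F] [Finite F] {q : ℕ} (K : Unitary.Conj F q)

local notation "V" => (Fin (2 + 1) → F)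
local notation "H" => hermForm (2 + 1) F q
local notation "G" => SU (2 + 1) F q

variable (P : HPair (F := F) (q := q) (k := 1))

/-- The third vector of the frame. -/
def wv : V := incl fun _ => 1

include K

theorem sum3 {R : Type*} [AddCommMonoid R] (f : Fin (2 + 1) → R) : ∑ i, f i = f 0 + f 1 + f 2 :=
  Fin.sum_univ_three f

theorem h1_apply (z z' : Fin 1 → F) : hermForm 1 F q z z' = z 0 * K.bar (z' 0) := by
  rw [ClassicalAut.Unitary.herm_apply K, Fin.sum_univ_one]

theorem incl_eq (z : Fin 1 → F) : (incl z : V) = z 0 • wv := by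
  rw [wv, ← map_smul]
  congr 1
  funext i
  rw [Subsingleton.elim i 0]
  simp

theorem h_ww : H wv wv = 1 := by
  rw [wv, h_incl K, h1_apply K, map_one, mul_one]

theorem h_wv_v : H wv P.v = 0 := h_incl_v K P _

theorem h_wv_u : H wv P.u = 0 := h_incl_u K P _

theorem prj_zero (y : V) : prj y 0 = H y wv := by
  obtain ⟨P⟩ := exists_hpair K (k := 1)
  conv_rhs => rw [decomp K P y]
  rw [h_add_left K, h_add_left K, h_smul_left K, h_smul_left K, wv, h_v_incl K P, h_u_incl K P, h_incl K,
    h1_apply K, map_one]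
  ring

theorem decomp3 (y : V) : y = H y P.u • P.v + H y P.v • P.u + H y wv • wv := by
  conv_lhs => rw [decomp K P y, incl_eq K (prj y), prj_zero K y]

/-- An isotropic vector perpendicular to an isotropic vector is a multiple of it. -/
theorem perp_iso {y : V} (hy : H y y = 0) (hv : H y P.v = 0) : y = H y P.u • P.v := by
  have h := h_expand K P y y
  rw [hy, hv, map_zero, mul_zero, zero_mul, zero_add, zero_add, h1_apply K] at h
  have h0 : prj y 0 = 0 := by
    rcases mul_eq_zero.1 h.symm with h0 | h0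
    · exact h0
    · exact (map_eq_zero K.bar).1 h0
  conv_lhs => rw [decomp3 K P y, hv, ← prj_zero K y, h0, zero_smul, zero_smul, add_zero, add_zero]

theorem mem_pointStab_iff {g : G} : g ∈ pointStab P ↔ H (app g P.v) P.v = 0 := by
  constructor
  · rintro ⟨c, hc⟩
    rw [hc, h_smul_left K, P.hv, mul_zero]
  · exact fun h => ⟨_, perp_iso K P (by rw [h_app, P.hv]) h⟩

theorem exists_point (y : V) (hy : y ≠ 0) (hyy : H y y = 0) : ∃ g : G, app g P.v = y :=
  exists_move_one K le_rfl (v_ne P) hy (P.hv.trans hyy.symm)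

/-- Every point off the base point is the image of the second one under the radical. -/
theorem exists_rad_u {y : V} (hyy : H y y = 0) (hyv : H y P.v = 1) : ∃ s ∈ rad K P, app s P.u = y := by
  have hd := decomp K P y
  rw [hyv, one_smul] at hd
  have hval : H (incl (prj y)) (incl (prj y)) + H y P.u + K.bar (H y P.u) = 0 := by
    have h1 := h_expand K P y y
    rw [hyy, hyv, map_one] at h1
    rw [h_incl K]
    linear_combination -h1
  obtain ⟨s, hs⟩ := exists_sg K (show 3 ≤ 2 + 1 by norm_num) P.hv (h_incl_v K P (prj y)) hval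
  refine ⟨s, ⟨_, _, hs⟩, ?_⟩
  rw [app_u K P hs]
  conv_rhs => rw [hd]
  abel

/-- The stabiliser of the point is transitive on the other points. -/
theorem two_trans (g h : G) (hg : g ∉ pointStab P) (hh : h ∉ pointStab P) :
    ∃ b ∈ pointStab P, ((b * g : G) : G ⧸ pointStab P) = (h : G ⧸ pointStab P) := by
  have key : ∀ g : G, g ∉ pointStab P →
      ∃ s ∈ rad K P, ∃ c : F, c ≠ 0 ∧ app s P.u = c • app g P.v := by
    intro g hg
    have hne : H (app g P.v) P.v ≠ 0 := fun e => hg ((mem_pointStab_iff K P).2 e)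
    obtain ⟨s, hs, e⟩ := exists_rad_u K P (y := (H (app g P.v) P.v)⁻¹ • app g P.v)
      (by rw [h_smul_left K, h_smul_right K, h_app, P.hv, mul_zero, mul_zero])
      (by rw [h_smul_left K, inv_mul_cancel₀ hne])
    exact ⟨s, hs, _, inv_ne_zero hne, e⟩
  obtain ⟨s, hs, c, hc, e⟩ := key g hg
  obtain ⟨s', hs', c', hc', e'⟩ := key h hh
  refine ⟨s' * s⁻¹, rad_le K P ((rad K P).mul_mem hs' ((rad K P).inv_mem hs)), QuotientGroup.eq.2 ?_⟩
  have h1 : app (s' * s⁻¹ * g) P.v = (c⁻¹ * c') • app h P.v := by
    rw [app_mul, app_mul, show app g P.v = c⁻¹ • app s P.u by rw [e, smul_smul, inv_mul_cancel₀ hc, one_smul],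
      app_smul, app_inv, app_smul, e', smul_smul]
  have h2 : (s' * s⁻¹ * g)⁻¹ * h ∈ pointStab P := by
    refine ⟨(c⁻¹ * c')⁻¹, app_injective (s' * s⁻¹ * g) ?_⟩
    rw [app_mul (s' * s⁻¹ * g)⁻¹ h, app_inv', app_smul, h1, smul_smul,
      inv_mul_cancel₀ (mul_ne_zero (inv_ne_zero hc) hc'), one_smul]
  exact h2

/-- The determinant condition in the frame. -/
theorem det_rel {g : G} {α β γ δ e : F} (h1 : app g P.v = α • P.v + γ • P.u)
    (h2 : app g P.u = β • P.v + δ • P.u) (h3 : app g wv = e • (wv : V)) : (α * δ - β * γ) * e = 1 := by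
  set C : Matrix (Fin 3) (Fin 3) F := Matrix.of fun i j => ![P.v i, P.u i, wv i] j with hC
  set D : Matrix (Fin 3) (Fin 3) F := !![α, β, 0; γ, δ, 0; 0, 0, e] with hD
  have hmul : (g.1.1 : Matrix (Fin 3) (Fin 3) F) * C = C * D := by
    funext i j
    have a1 := congrFun h1 i
    have a2 := congrFun h2 i
    have a3 := congrFun h3 i
    simp only [app, mulVec, dotProduct, Pi.add_apply, Pi.smul_apply, smul_eq_mul, sum3 K] at a1 a2 a3
    rw [Matrix.mul_apply, Matrix.mul_apply, Fin.sum_univ_three, Fin.sum_univ_three]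
    fin_cases j <;> simp [hC, hD] <;>
      first | linear_combination a1 | linear_combination a2 | linear_combination a3
  have hdet : C.det ≠ 0 := by
    intro h0
    obtain ⟨x, hx0, hx⟩ := Matrix.exists_mulVec_eq_zero_iff.2 h0
    have he : x 0 • P.v + x 1 • P.u + x 2 • (wv : V) = 0 := by
      funext i
      have := congrFun hx i
      simp [hC, mulVec, dotProduct, Fin.sum_univ_three] at this
      simp only [Pi.add_apply, Pi.smul_apply, smul_eq_mul, Pi.zero_apply]
      linear_combination this
    have k1 := congrArg (fun y => H y P.u) he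
    have k2 := congrArg (fun y => H y P.v) he
    have k3 := congrArg (fun y => H y wv) he
    simp [h_add_left K, h_smul_left K, h_zero_left K, P.hv, P.hu, P.hvu, h_uv K P, h_ww K, h_wv_v K P,
      h_wv_u K P, h_eq_zero_symm K (h_wv_v K P), h_eq_zero_symm K (h_wv_u K P)] at k1 k2 k3
    exact hx0 (funext fun i => by fin_cases i <;> simp [k1, k2, k3])
  have h := congrArg Matrix.det hmul
  rw [det_mul, det_mul, show (g.1.1 : Matrix (Fin 3) (Fin 3) F).det = 1 from g.1.2, one_mul] at h
  have hD1 : D.det = 1 := mul_left_cancel₀ hdet (h.symm.trans (mul_one _).symm)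
  rw [hD, det_fin_three] at hD1
  simp at hD1
  linear_combination hD1

/-- An element fixing both points of the frame is diagonal. -/
theorem levi_shape {m : G} {a : F} (hv : app m P.v = a • P.v) (hl : m ∈ levi P) :
    app m P.u = (K.bar a)⁻¹ • P.u ∧ app m wv = (K.bar a * a⁻¹) • (wv : V) := by
  have ha : a ≠ 0 := levi_eig_ne K P hl hv
  obtain ⟨d, hd⟩ := hl.2
  have h1 : H (app m P.v) (app m P.u) = 1 := by rw [h_app, P.hvu]
  rw [hv, hd, h_smul_left K, h_smul_right K, P.hvu, mul_one] at h1
  have hd' : d = (K.bar a)⁻¹ := by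
    have h2 := congrArg K.bar h1
    rw [map_mul, K.bar_bar, map_one] at h2
    exact eq_inv_of_mul_eq_one_right h2
  refine ⟨hd' ▸ hd, ?_⟩
  have hd0 : d ≠ 0 := hd' ▸ inv_ne_zero ((map_ne_zero K.bar).2 ha)
  have e1 : H (app m wv) P.v = 0 := by
    have h2 : H (app m wv) (app m P.v) = 0 := by rw [h_app, h_wv_v K P]
    rw [hv, h_smul_right K] at h2
    exact (mul_eq_zero.1 h2).resolve_left ((map_ne_zero K.bar).2 ha)
  have e2 : H (app m wv) P.u = 0 := by
    have h2 : H (app m wv) (app m P.u) = 0 := by rw [h_app, h_wv_u K P]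
    rw [hd, h_smul_right K] at h2
    exact (mul_eq_zero.1 h2).resolve_left ((map_ne_zero K.bar).2 hd0)
  have e3 := decomp3 K P (app m wv)
  rw [e1, e2, zero_smul, zero_smul, zero_add, zero_add] at e3
  have hdet := det_rel K P (g := m) (α := a) (β := 0) (γ := 0) (δ := d)
    (by rw [hv, zero_smul, add_zero]) (by rw [hd, zero_smul, zero_add]) e3
  rw [hd', mul_zero, sub_zero] at hdet
  rw [e3]
  congr 1
  rw [eq_inv_of_mul_eq_one_right hdet, mul_inv, inv_inv, mul_comm]

theorem eq_of_app_eq {g g' : G} (h1 : app g P.v = app g' P.v) (h2 : app g P.u = app g' P.u)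
    (h3 : app g wv = app g' (wv : V)) : g = g' := ext_app fun y => by
  conv_lhs => rw [decomp3 K P y]
  conv_rhs => rw [decomp3 K P y]
  simp only [app_add, app_smul, h1, h2, h3]

theorem center_iff3 {g : G} : g ∈ Subgroup.center G ↔ ∃ c : F, ∀ y : V, app g y = c • y := by
  rw [center_iff K (show 2 ≤ 2 + 1 by norm_num)]
  refine ⟨fun ⟨c, hc⟩ => ⟨c, fun y => ?_⟩, fun ⟨c, hc⟩ => ⟨c, Matrix.ext_of_mulVec_single fun i => ?_⟩⟩
  · rw [app, hc, smul_mulVec, one_mulVec]
  · rw [smul_mulVec, one_mulVec]; exact hc _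

theorem center_le : Subgroup.center G ≤ pointStab P := fun g hg => by
  obtain ⟨c, hc⟩ := (center_iff3 K).1 hg
  exact ⟨c, hc _⟩

omit K

/-- The scalar at the point. -/
noncomputable def chi : pointStab P →* F where
  toFun g := g.2.choose
  map_one' := (smul_left_injective F (v_ne P) ((one_smul F P.v).trans ((app_one P.v).symm.trans
    (1 : pointStab P).2.choose_spec))).symm
  map_mul' a b := smul_left_injective F (v_ne P) (by
    show (a * b).2.choose • P.v = (a.2.choose * b.2.choose) • P.v
    exact (a * b).2.choose_spec.symm.trans ((app_mul _ _ _).trans ((congrArg (app (a : G)) b.2.choose_spec).trans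
      ((app_smul _ _ _).trans ((congrArg (b.2.choose • ·) a.2.choose_spec).trans
        ((smul_smul _ _ _).trans (congrArg (· • P.v) (mul_comm _ _))))))))

theorem chi_spec (g : pointStab P) : app (g : G) P.v = chi P g • P.v := g.2.choose_spec

theorem chi_eq (g : pointStab P) {a : F} (h : app (g : G) P.v = a • P.v) : chi P g = a :=
  smul_left_injective F (v_ne P) ((chi_spec P g).symm.trans h)

include K

theorem chi_eq_one_iff (g : pointStab P) : chi P g = 1 ↔ (g : G) ∈ rad K P := by
  constructor
  · intro h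
    have hv : app (g : G) P.v = (1 : F) • P.v := h ▸ chi_spec P g
    obtain ⟨s, hs, m, hm, e⟩ := exists_decomp K P le_rfl g.2
    obtain ⟨x, t, hsg⟩ := id hs
    have hmv : app m P.v = (1 : F) • P.v := by
      refine app_injective s ?_
      rw [← app_mul, ← e, hv, one_smul, app_self K hsg]
    obtain ⟨h2, h3⟩ := levi_shape K P hmv hm
    rw [map_one, inv_one] at h2
    rw [map_one, inv_one, mul_one] at h3
    have : m = 1 := eq_of_app_eq K P (by rw [hmv, one_smul, app_one]) (by rw [h2, one_smul, app_one])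
      (by rw [h3, one_smul, app_one])
    rw [e, this, mul_one]
    exact hs
  · rintro ⟨x, t, h⟩
    exact chi_eq P g (by rw [app_self K h, one_smul])

theorem chi_ne_zero (g : pointStab P) : chi P g ≠ 0 := fun h => by
  have := chi_spec P g
  rw [h, zero_smul] at this
  exact app_ne_zero _ (v_ne P) this

theorem index_pointStab : (pointStab P).index = q ^ 3 + 1 := by
  have h := lineStab_index K (show 3 ≤ 2 + 1 by norm_num) (v_ne P)
  rw [P.hv, card_scalar_iso K, card_norm_set K 0 (map_zero _), if_pos rfl,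
    show lineStab P.v (v_ne P) = pointStab P from rfl] at h
  have hq : 1 < q ^ 2 := Nat.one_lt_pow two_ne_zero K.two_le
  refine Nat.eq_of_mul_eq_mul_right (show 0 < q ^ 2 - 1 by omega) (h.trans ?_)
  simp [nIso, Nat.even_iff]

theorem card_G : Nat.card G = q ^ 3 * ((q ^ 2 - 1) * (q ^ 3 + 1)) := ModuleIndex.UThree.card_SU_three K

theorem card_pointStab : Nat.card (pointStab P) = q ^ 3 * (q ^ 2 - 1) := by
  have h := (pointStab P).card_mul_index
  rw [index_pointStab K P, card_G K] at h
  refine Nat.eq_of_mul_eq_mul_right (show 0 < q ^ 3 + 1 by omega) (h.trans ?_)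
  ring

theorem card_rad_eq : Nat.card (rad K P) = q ^ 3 := by
  refine le_antisymm ?_ ?_
  · have h := card_inter_rad K P (⊤ : Subgroup G)
    rw [top_inf_eq] at h
    refine h.trans ?_
    rw [show q ^ 3 = q ^ (2 * 1) * q by ring, ← card_F_pow K (j := 1)]
    refine Nat.mul_le_mul (Nat.card_le_card_of_injective _ Subtype.val_injective) ?_
    refine le_trans (Nat.le_of_dvd Nat.card_pos (AddSubgroup.card_dvd_of_le (parZ_le K P ⊤))) ?_
    rw [card_skew K]
  · refine le_trans (le_of_eq ?_) (card_rad K P le_rfl)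
    rw [card_skew K]
    ring

end CfsgLib.MinIndexSU3
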