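import Cfsg.Agent.Lib.MinIndexSU3.Param
import Cfsg.Agent.Lib.MinIndexSU3.Fisher
import Cfsg.Agent.Lib.SL2.Overgroups

/-!
The transvections of a subgroup with centre on one non-singular line: Dickson's theorem bounds their number.
-/

set_option autoImplicit false
set_option linter.unusedSectionVars false

namespace CfsgLib.MinIndexSU3

open Matrix Cfsg CfsgLib.Classical.Herm CfsgLib.Classical.Elation CfsgLib.MinIndexSU
open CfsgLib.ClassicalAut (Unitary.Conj)

variable {F : Type*} [Field F] [Finite F] {q : ℕ} (K : Unitary.Conj F q)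

local notation "V" => (Fin (2 + 1) → F)
local notation "H" => hermForm (2 + 1) F q
local notation "G" => SU (2 + 1) F q

variable (P : HPair (F := F) (q := q) (k := 1)) (M : Subgroup (SU (2 + 1) F q))

/-- The elements fixing the third vector of the frame. -/
def fixW : Subgroup G where
  carrier := {g | app g (wv : V) = wv}
  one_mem' := app_one _
  mul_mem' := fun {a b} (ha : _ = _) (hb : _ = _) => show _ = _ by rw [app_mul, hb, ha]
  inv_mem' := fun {a} (ha : _ = _) => show _ = _ by conv_lhs => rw [← ha, app_inv]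

include K

/-- The transvections of the subgroup at the base point. -/
def tv : Subgroup G where
  carrier := {g | g ∈ M ∧ ∃ t, IsT K g P.v t}
  one_mem' := ⟨M.one_mem, 0, (isT_iff K).2 (sg_one K P.hv)⟩
  mul_mem' := fun {a b} ⟨ha, t, h⟩ ⟨hb, t', h'⟩ => ⟨M.mul_mem ha hb, t + t', (isT_iff K).2 (by
    have := sg_mul K ((isT_iff K).1 h) ((isT_iff K).1 h')
    rwa [h_zero_left K, sub_zero, zero_add] at this)⟩
  inv_mem' := fun {a} ⟨ha, t, h⟩ => ⟨M.inv_mem ha, K.bar t, (isT_iff K).2 (by
    have := sg_inv K ((isT_iff K).1 h)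
    rwa [neg_zero] at this)⟩

theorem card_tv : Nat.card (tv K P M) = Nat.card (parZ K P M) := by
  have hex : ∀ g : tv K P M, ∃ t, IsT K (g : G) P.v t := fun g => g.2.2
  choose t ht using hex
  refine Nat.card_eq_of_bijective (fun g => (⟨t g, g, g.2.1, ht g⟩ : parZ K P M)) ⟨fun a b e => ?_, ?_⟩
  · have e' : t a = t b := congrArg Subtype.val e
    exact Subtype.ext (sg_unique K ((isT_iff K).1 (ht a)) (e' ▸ (isT_iff K).1 (ht b)))
  · rintro ⟨c, g, hg, h⟩
    refine ⟨⟨g, hg, c, h⟩, Subtype.ext ?_⟩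
    have h1 := (ht ⟨g, hg, c, h⟩).2.2 P.u
    rw [h.2.2 P.u, h_uv K P, mul_one, mul_one] at h1
    exact (smul_left_injective F (v_ne P) (add_left_cancel h1)).symm

theorem app_tv {g : G} (hg : g ∈ tv K P M) {y : V} (hy : H y P.v = 0) : app g y = y := by
  obtain ⟨-, t, h⟩ := hg
  rw [h.2.2, hy, mul_zero, zero_smul, add_zero]

/-- A transvection of the subgroup moves every other point. -/
theorem tv_free {g : G} (hg : g ∈ tv K P M) {y : V} (hy : H y P.v ≠ 0) {c : F}
    (e : app g y = c • y) : g = 1 := by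
  obtain ⟨-, t, h⟩ := hg
  rw [h.2.2] at e
  have e1 := congrArg (fun x => H x P.v) e
  simp only [h_add_left K, h_smul_left K, P.hv, mul_zero, add_zero] at e1
  have hc : c = 1 := mul_right_cancel₀ hy ((one_mul (H y P.v)).symm ▸ e1.symm)
  rw [hc, one_smul, add_eq_left, smul_eq_zero] at e
  have ht : t = 0 := (mul_eq_zero.1 (e.resolve_right (v_ne P))).resolve_right hy
  refine ext_app fun x => ?_
  rw [h.2.2, ht, zero_mul, zero_smul, add_zero, app_one]

omit K in
/-- The orbit of the point under the elements of the subgroup fixing the third vector. -/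
def orbitW : Set (G ⧸ pointStab P) :=
  Set.range fun g : ↥(M ⊓ fixW) => ((g : G) : G ⧸ pointStab P)

theorem orbitW_perp {g : G} (hg : g ∈ M ⊓ fixW) : H (app g P.v) wv = 0 := by
  have h : app g (wv : V) = wv := hg.2
  conv_lhs => rw [← h, h_app, h_eq_zero_symm K (h_wv_v K P)]

/-- The number of points of the orbit off any point of the line. -/
theorem card_off {g₀ : G} (hg₀ : g₀ ∈ M) (hw : H (app g₀ P.v) wv = 0) :
    Nat.card (parZ K P M) ∣
      Nat.card {x : G ⧸ pointStab P // x ∈ orbitW P M ∧ x ≠ (g₀ : G ⧸ pointStab P)} := by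
  set T := (tv K P M).map (MulAut.conj g₀).toMonoidHom with hT
  have hcard : Nat.card T = Nat.card (parZ K P M) := by
    rw [← card_tv K P M]
    exact (Nat.card_congr ((tv K P M).equivMapOfInjective _ (MulAut.conj g₀).injective).toEquiv).symm
  have hTw : ∀ τ ∈ T, τ ∈ M ⊓ fixW ∧ app τ (app g₀ P.v) = app g₀ P.v := by
    rintro _ ⟨t, ht, rfl⟩
    have e : ∀ x, H x (app g₀ P.v) = 0 → app (g₀ * t * g₀⁻¹) x = x := fun x hx => by
      have h1 : H (app g₀⁻¹ x) P.v = 0 := by
        rw [← h_app g₀, app_inv', hx]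
      rw [app_mul, app_mul, app_tv K P M ht h1, app_inv']
    refine ⟨⟨M.mul_mem (M.mul_mem hg₀ ht.1) (M.inv_mem hg₀), e _ (h_eq_zero_symm K hw)⟩, e _ ?_⟩
    rw [h_app, P.hv]
  let act : MulAction T {x : G ⧸ pointStab P // x ∈ orbitW P M ∧ x ≠ (g₀ : G ⧸ pointStab P)} :=
    { smul := fun τ x => ⟨(τ : G) • x.1, by
        obtain ⟨⟨a, ha⟩, e⟩ := x.2.1
        refine ⟨⟨⟨(τ : G) * a, (M ⊓ fixW).mul_mem (hTw τ τ.2).1 ha⟩, ?_⟩, fun e' => x.2.2 ?_⟩
        · rw [← e]; rfl
        · have h1 : (τ : G) • ((g₀ : G) : G ⧸ pointStab P) = (g₀ : G) := by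
            rw [MulAction.Quotient.smul_coe, smul_eq_mul]
            refine (QuotientGroup.eq.2 ?_).symm
            refine ⟨1, ?_⟩
            rw [one_smul, app_mul, app_mul, (hTw τ τ.2).2, app_inv]
          exact MulAction.injective (τ : G) (e'.trans h1.symm)⟩
      one_smul := fun x => Subtype.ext (one_smul G x.1)
      mul_smul := fun a b x => Subtype.ext (mul_smul (a : G) (b : G) x.1) }
  rw [← hcard]
  refine SL2.Census.card_dvd_of_free (C := T) fun x τ e => ?_
  obtain ⟨⟨a, ha⟩, ex⟩ := x.2.1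
  have e' : (τ : G) • x.1 = x.1 := congrArg Subtype.val e
  have hxa : x.1 = ((a : G) : G ⧸ pointStab P) := ex.symm
  rw [hxa, MulAction.Quotient.smul_coe, smul_eq_mul] at e'
  obtain ⟨c, hc⟩ := QuotientGroup.eq.1 e'.symm
  obtain ⟨t, ht, hτ⟩ := τ.2
  have hτ' : (τ : G) = g₀ * t * g₀⁻¹ := hτ.symm
  have hne : H (app g₀⁻¹ (app a P.v)) P.v ≠ 0 := fun h0 => x.2.2 (by
    rw [hxa]
    refine QuotientGroup.eq.2 ?_
    have : g₀⁻¹ * a ∈ pointStab P := (mem_pointStab_iff K P).2 (by rw [app_mul]; exact h0)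
    simpa using (pointStab P).inv_mem this)
  have h2 : app t (app g₀⁻¹ (app a P.v)) = c • app g₀⁻¹ (app a P.v) := by
    have h3 := congrArg (fun y => app g₀⁻¹ (app a y)) hc
    simp only [hτ', app_smul, app_mul, app_inv'] at h3
    rw [app_inv] at h3
    exact h3
  refine Subtype.ext ?_
  rw [hτ', tv_free K P M ht hne h2]
  simp

theorem h_perp_expand {y : V} (hy : H y wv = 0) (y' : V) :
    H y y' = H y P.u * K.bar (H y' P.v) + H y P.v * K.bar (H y' P.u) := by
  rw [h_expand K P y y', h1_apply K, prj_zero K y, hy, zero_mul, add_zero]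

/-- The orbit is the whole line. -/
theorem card_orbitW (hs : 2 ≤ Nat.card (parZ K P M))
    (htr : ∀ g : G, ∃ m ∈ M, (m : G ⧸ pointStab P) = (g : G ⧸ pointStab P)) :
    Nat.card (orbitW P M) = q + 1 := by
  classical
  set O := orbitW P M with hO
  set o : G ⧸ pointStab P := ((1 : G) : G ⧸ pointStab P) with ho
  have hoO : o ∈ O := ⟨1, rfl⟩
  have hperp1 : H (app (1 : G) P.v) wv = 0 := by rw [app_one]; exact h_eq_zero_symm K (h_wv_v K P)
  have hne : ∀ x, Nat.card {y // y ∈ O ∧ y ≠ x} = Nat.card O - if x ∈ O then 1 else 0 := by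
    intro x
    rw [Nat.card_coe_set_eq, show Nat.card {y // y ∈ O ∧ y ≠ x} = (O \ {x}).ncard from
      (Nat.card_coe_set_eq _)]
    split_ifs with h
    · rw [Set.ncard_sdiff_singleton_of_mem h]
    · rw [Set.sdiff_singleton_eq_self h, Nat.sub_zero]
  -- every point of the line is in the orbit
  have hall : ∀ g : G, H (app g P.v) wv = 0 → (g : G ⧸ pointStab P) ∈ O := by
    intro g hg
    by_contra hgO
    obtain ⟨m, hm, e⟩ := htr g
    have hmw : H (app m P.v) wv = 0 := by
      obtain ⟨c, hc⟩ := QuotientGroup.eq.1 e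
      rw [show app g P.v = c • app m P.v by
        rw [← app_smul, ← hc, ← app_mul, mul_inv_cancel_left]] at hg
      rw [h_smul_left K] at hg
      exact (mul_eq_zero.1 hg).resolve_left fun h0 => by
        rw [h0, zero_smul] at hc; exact app_ne_zero _ (v_ne P) hc
    have d1 := card_off K P M hm hmw
    have d2 := card_off K P M M.one_mem hperp1
    rw [hne, if_neg (e ▸ hgO), Nat.sub_zero] at d1
    rw [hne, if_pos hoO] at d2
    have h0 : 0 < Nat.card O := by
      have : Nonempty O := ⟨⟨o, hoO⟩⟩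
      exact Nat.card_pos
    have h1 := (Nat.dvd_sub d1 d2)
    rw [show Nat.card O - (Nat.card O - 1) = 1 by omega, Nat.dvd_one] at h1
    omega
  -- the points of the line
  have hex : ∀ t : skew K, ∃ g : G, app g P.v = P.u + (t : F) • P.v := fun t =>
    exists_point K P _
      (fun e => by
        have := congrArg (fun y => H y P.v) e
        simp [h_add_left K, h_smul_left K, P.hv, h_uv K P, h_zero_left K] at this)
      (by
        simp only [h_add_left K, h_add_right K, h_smul_left K, h_smul_right K, P.hv, P.hu, P.hvu, h_uv K P,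
          mul_zero, zero_add, mul_one, add_zero]
        exact (add_comm _ _).trans t.2)
  choose gt hgt using hex
  let f : skew K → G ⧸ pointStab P := fun t => (gt t : G)
  have hf : ∀ t : skew K, ∃ g : G, app g P.v = P.u + (t : F) • P.v ∧ f t = (g : G ⧸ pointStab P) :=
    fun t => ⟨gt t, hgt t, rfl⟩
  refine Eq.trans ?_ (congrArg (· + 1) (card_skew K))
  rw [← Finite.card_option]
  symm
  refine Nat.card_eq_of_bijective (fun i => (⟨i.elim o f, ?_⟩ : O)) ⟨?_, ?_⟩
  · rcases i with _ | t
    · exact hoO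
    · obtain ⟨g, hg, e⟩ := hf t
      show f t ∈ O
      rw [e]
      refine hall g ?_
      rw [hg, h_add_left K, h_smul_left K, h_eq_zero_symm K (h_wv_u K P), h_eq_zero_symm K (h_wv_v K P)]
      ring
  · have hno : ∀ t, f t ≠ o := fun t e' => by
      obtain ⟨g, hg, e⟩ := hf t
      obtain ⟨c, hc⟩ := QuotientGroup.eq.1 ((e.symm.trans e').symm)
      rw [inv_one, one_mul, hg] at hc
      have := congrArg (fun y => H y P.v) hc
      simp [h_add_left K, h_smul_left K, P.hv, h_uv K P] at this
    rintro (_ | a) (_ | b) e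
    · rfl
    · exact absurd (congrArg Subtype.val e).symm (hno b)
    · exact absurd (congrArg Subtype.val e) (hno a)
    · obtain ⟨g, hg, eg⟩ := hf a
      obtain ⟨g', hg', eg'⟩ := hf b
      obtain ⟨c, hc⟩ := QuotientGroup.eq.1 (eg.symm.trans ((congrArg Subtype.val e).trans eg'))
      have h1 : app g' P.v = c • app g P.v := by
        rw [← app_smul, ← hc, ← app_mul, mul_inv_cancel_left]
      rw [hg, hg'] at h1
      have k1 := congrArg (fun y => H y P.v) h1
      have k2 := congrArg (fun y => H y P.u) h1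
      simp [h_add_left K, h_smul_left K, P.hv, P.hu, P.hvu, h_uv K P] at k1 k2
      refine congrArg some (Subtype.ext ?_)
      rw [k2, ← k1, one_mul]
  · rintro ⟨x, ⟨a, ha⟩, rfl⟩
    have hw := orbitW_perp K P M ha
    by_cases hα : H (app a P.v) P.v = 0
    · exact ⟨none, Subtype.ext (QuotientGroup.eq.2 (by simpa using (mem_pointStab_iff K P).2 hα))⟩
    set γ := H (app a P.v) P.v with hγ
    set α := H (app a P.v) P.u with hα'
    have hs' : α / γ + K.bar (α / γ) = 0 := by
      have h1 := h_perp_expand K P hw (app a P.v)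
      rw [h_app, P.hv, ← hγ, ← hα'] at h1
      rw [map_div₀]
      have : K.bar γ ≠ 0 := (map_ne_zero K.bar).2 hα
      field_simp
      linear_combination -h1
    refine ⟨some ⟨α / γ, hs'⟩, Subtype.ext ?_⟩
    obtain ⟨g, hg, eg⟩ := hf ⟨α / γ, hs'⟩
    show f _ = _
    rw [eg]
    refine QuotientGroup.eq.2 ⟨γ, app_injective g ?_⟩
    rw [app_mul, app_inv', app_smul, hg]
    conv_lhs => rw [decomp3 K P (app a P.v), hw, zero_smul, add_zero, ← hγ, ← hα']
    rw [smul_add, smul_smul, mul_div_cancel₀ _ hα]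
    exact add_comm _ _

/-- The stabiliser of the point among those elements. -/
theorem card_stab_fixW (hs : 2 ≤ Nat.card (parZ K P M))
    (htr : ∀ g : G, ∃ m ∈ M, (m : G ⧸ pointStab P) = (g : G ⧸ pointStab P)) :
    ∃ l, l ∣ q - 1 ∧ Nat.card ↥(M ⊓ fixW (F := F) (q := q)) = (q + 1) * (Nat.card (parZ K P M) * l) := by
  classical
  set X := M ⊓ fixW (F := F) (q := q) with hX
  set S := (pointStab P).subgroupOf X with hS
  have hidx : S.index = q + 1 := by
    rw [← card_orbitW K P M hs htr, Subgroup.index_eq_card]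
    refine Nat.card_eq_of_bijective (Quotient.lift
      (fun g : X => (⟨((g : G) : G ⧸ pointStab P), g, rfl⟩ : orbitW P M)) ?_) ⟨?_, ?_⟩
    · intro a b h
      exact Subtype.ext (QuotientGroup.eq.2 ((QuotientGroup.leftRel_apply (s := S)).1 h :))
    · intro a b e
      induction a using Quotient.inductionOn with | _ a =>
      induction b using Quotient.inductionOn with | _ b =>
      exact Quotient.sound ((QuotientGroup.leftRel_apply (s := S)).2 (QuotientGroup.eq.1 (congrArg Subtype.val e) :))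
    · rintro ⟨x, g, rfl⟩
      exact ⟨Quotient.mk _ g, rfl⟩
  let χ : S →* Fˣ := MonoidHom.toHomUnits
    ((chi P).comp (MonoidHom.codRestrict (X.subtype.comp S.subtype) (pointStab P) fun g => g.2))
  have hker : Nat.card χ.ker = Nat.card (parZ K P M) := by
    rw [← card_tv K P M]
    have hk : ∀ g : S, g ∈ χ.ker → ((g : X) : G) ∈ tv K P M := by
      intro g hg
      have h1 : chi P ⟨((g : X) : G), g.2⟩ = 1 := congrArg Units.val hg
      obtain ⟨x, t, h⟩ := (chi_eq_one_iff K P _).1 h1
      obtain ⟨t', h'⟩ := sg_normal K P h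
      have hw : app ((g : X) : G) (wv : V) = wv := (g : X).2.2
      rw [app_eq K h', h_wv_v K P, mul_zero, zero_smul, zero_smul, add_zero, add_zero, sub_eq_self,
        smul_eq_zero] at hw
      have h0 : incl (prj x) = (0 : V) := by
        have := hw.resolve_right (v_ne P)
        rw [wv, h_incl K, h1_apply K, one_mul] at this
        rw [incl_eq K, (map_eq_zero K.bar).1 this, zero_smul]
      rw [h0, ← isT_iff] at h'
      exact ⟨(g : X).2.1, t', h'⟩
    have hmem : ∀ g : tv K P M, (g : G) ∈ X ∧ (g : G) ∈ pointStab P := fun g =>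
      ⟨⟨g.2.1, app_tv K P M g.2 (h_wv_v K P)⟩, ⟨1, by rw [one_smul]; exact app_tv K P M g.2 P.hv⟩⟩
    refine Nat.card_eq_of_bijective (fun g => (⟨(((g : S) : X) : G), hk g g.2⟩ : tv K P M))
      ⟨fun a b e => Subtype.ext (Subtype.ext (Subtype.ext (congrArg Subtype.val e :)) ), fun g => ?_⟩
    refine ⟨⟨⟨⟨g, (hmem g).1⟩, (hmem g).2⟩, Units.ext ?_⟩, rfl⟩
    exact chi_eq P _ ((app_tv K P M g.2 P.hv).trans (one_smul F P.v).symm)
  refine ⟨Nat.card χ.range, ?_, ?_⟩
  · rw [← card_fixed K]
    have hle : χ.range ≤ AutPSL.fixedUnits (F := F) K.bar := by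
      rintro _ ⟨g, rfl⟩
      show K.bar (chi P ⟨((g : X) : G), g.2⟩) = _
      set a := chi P ⟨((g : X) : G), g.2⟩ with ha
      obtain ⟨s, hsr, m, hm, e⟩ := exists_decomp K P le_rfl (g := ((g : X) : G)) g.2
      obtain ⟨x, t, hsg⟩ := id hsr
      have hmv : app m P.v = a • P.v := by
        refine app_injective s ?_
        rw [← app_mul, ← e, app_smul, app_self K hsg]
        exact chi_spec P ⟨((g : X) : G), g.2⟩
      have h1 := prj_app_wv K P (g := ((g : X) : G)) (a := a) (chi_spec P ⟨((g : X) : G), g.2⟩)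
      rw [show app ((g : X) : G) (wv : V) = wv from (g : X).2.2, wv, prj_incl] at h1
      exact eq_of_mul_inv_eq_one h1.symm
    refine (Subgroup.card_dvd_of_le hle).trans (dvd_of_eq ?_)
    exact Nat.card_congr
      { toFun := fun u => ⟨((u : Fˣ) : F), u.2, Units.ne_zero _⟩
        invFun := fun a => ⟨Units.mk0 a.1 a.2.2, a.2.1⟩
        left_inv := fun u => Subtype.ext (Units.ext rfl)
        right_inv := fun a => rfl }
  · rw [← hidx, ← hker, ← Subgroup.index_ker χ, Subgroup.card_mul_index, mul_comm, Subgroup.card_mul_index]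

end CfsgLib.MinIndexSU3
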