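import Cfsg.Agent.Lib.MinIndexSU3.Count
import Cfsg.Agent.Lib.TwoCover.Unitary

/-!
The minimal index of a proper subgroup of `SU_3(q)` containing the scalars.
-/

set_option autoImplicit false
set_option linter.unusedSectionVars false

namespace CfsgLib.MinIndexSU3

open Matrix Cfsg CfsgLib.Classical.Herm CfsgLib.Classical.Elation CfsgLib.MinIndexSU
open CfsgLib.ClassicalAut (Unitary.Conj)

/-- Over nine elements with transvection groups of order three. -/
theorem nine_arith : ∀ e ∈ [1, 3], ∀ p ∈ [1, 3, 9, 27, 81], ∀ c ∈ Finset.range (p + 1),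
    80 % c = 0 → (e * c + 3 * p) % 73 ≠ 0 := by decide +kernel

theorem three_arith : ∀ e ∈ [1, 3], ∀ p ∈ [1, 3], ∀ c ∈ Finset.range (p + 1),
    8 % c = 0 → (e * c + 3 * p) % 7 ≠ 0 := by decide +kernel

theorem eight_arith : ∀ e ∈ [1, 3], (e * 7 + 3 * 8) % 19 ≠ 0 := by decide +kernel

theorem seventeen_arith : ∀ p ∈ [1, 17], ∀ c ∈ Finset.range (p + 1), c ≠ 0 →
    ¬ ((3 * c + 3 * (p * 13)) % 7 = 0 ∧ (3 * c + 3 * (p * 7)) % 13 = 0) := by decide +kernel

variable {F : Type*} [Field F] [Finite F] {q : ℕ} (K : Unitary.Conj F q)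

local notation "V" => (Fin (2 + 1) → F)
local notation "H" => hermForm (2 + 1) F q
local notation "G" => SU (2 + 1) F q
local notation "Z" => Subgroup.center (SU (2 + 1) F q)

variable (P : HPair (F := F) (q := q) (k := 1)) (M : Subgroup (SU (2 + 1) F q))

include K

theorem bar_eq_pow (a : F) : K.bar a = a ^ q := K.bar_apply a

theorem exists_prime_pow : ∃ p k : ℕ, p.Prime ∧ q = p ^ k ∧ CharP F p := by
  obtain ⟨p, hp'⟩ := CharP.exists F
  cases nonempty_fintype F
  obtain ⟨n, hp, hn⟩ := FiniteField.card F p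
  rw [← Nat.card_eq_fintype_card, K.card] at hn
  obtain ⟨k, -, hk⟩ := (Nat.dvd_prime_pow hp).1 (hn ▸ dvd_pow_self q two_ne_zero)
  exact ⟨p, k, hp, hk, hp'⟩

theorem trans_of_index (hi : M.index ≤ q ^ 3) : Trans P M := by
  by_contra h
  obtain ⟨g, hg⟩ := not_forall.1 h
  have := index_le_of_intransitive (pointStab P) M (two_trans K P) ⟨g, fun m hm e => hg ⟨m, hm, e⟩⟩
  rw [index_pointStab K P] at this
  omega

theorem eq_top_of_full (hq : 3 ≤ q) (htr : Trans P M) (h : Nat.card (parZ K P M) = q) : M = ⊤ := by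
  have hv : P.v ∈ centres K M := ⟨P.hv, all_T_of_card K P M h⟩
  refine eq_top_iff.2 ((gen_top K (n := 2 + 1) le_rfl (by omega)).ge.trans (gen_le K fun w _ hw => ?_))
  rcases eq_or_ne w 0 with rfl | hw0
  · rw [show (0 : V) = (0 : F) • P.v by rw [zero_smul]]
    exact smul_mem_centres K _ hv
  obtain ⟨k, hk⟩ := exists_point K P w hw0 hw
  obtain ⟨m, hm, e⟩ := htr k
  obtain ⟨c, hc⟩ := QuotientGroup.eq.1 e
  rw [show w = c • app m P.v by rw [← hk, ← app_smul, ← hc, ← app_mul, mul_inv_cancel_left]]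
  exact smul_mem_centres K _ (app_mem_centres K hm hv)

/-- The numerical data. -/
theorem basic (htr : Trans P M) (hi : M.index ≤ q ^ 3) :
    ∃ c, c * Nat.card (chiM P M).range = q ^ 2 - 1 ∧ 1 ≤ c ∧ c ≤ Nat.card ↥(M ⊓ rad K P) ∧
      q ^ 2 - 1 ≤ Nat.card ↥(M ⊓ pointStab P) := by
  obtain ⟨c, hc⟩ := range_dvd K P M
  set pk := Nat.card ↥(M ⊓ rad K P)
  set L := Nat.card (chiM P M).range
  have hL : 0 < L := Nat.card_pos
  have hq2 : 0 < q ^ 2 - 1 := by
    have := Nat.one_lt_pow two_ne_zero K.two_le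
    omega
  have h := M.card_mul_index
  rw [card_M K P M htr, card_G K, card_MB K P M, hc] at h
  have hkey : pk * M.index = q ^ 3 * c := by
    refine Nat.eq_of_mul_eq_mul_left (Nat.mul_pos (show 0 < q ^ 3 + 1 by omega) hL) ?_
    refine Eq.trans ?_ (h.trans ?_) <;> ring
  have hc1 : 1 ≤ c := Nat.pos_of_ne_zero fun e => by rw [e, mul_zero] at hc; omega
  have hcp : c ≤ pk := by
    refine Nat.le_of_mul_le_mul_left ?_ (show 0 < q ^ 3 from pow_pos (by have := K.two_le; omega) 3)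
    rw [← hkey, mul_comm]
    exact Nat.mul_le_mul_right _ hi
  refine ⟨c, by rw [hc, mul_comm], hc1, hcp, ?_⟩
  rw [card_MB K P M, hc, mul_comm]
  exact Nat.mul_le_mul_right _ hcp

/-- The order of a torus class in the subgroup. -/
theorem ne_eq (htr : Trans P M) (hZ : Z ≤ M) {x : G} {j : ℕ} (hj : nn q = j * sv M x) :
    (nor M x).relIndex M * (cen M x).relIndex (nor M x) =
      (q + 1) * j * Nat.card ↥(M ⊓ rad K P) * Nat.card (chiM P M).range := by
  have h := card_eq (x := x) K hZ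
  rw [card_M K P M htr, card_MB K P M, cube_add_one (by have := K.two_le; omega), ← gcd_mul_nn, hj] at h
  have hpos : 0 < Nat.gcd 3 (q + 1) * sv M x :=
    Nat.mul_pos (Nat.gcd_pos_of_pos_left _ three_pos) (Nat.pos_of_ne_zero Subgroup.index_ne_zero_of_finite)
  refine Nat.eq_of_mul_eq_mul_right hpos (h.trans ?_)
  ring

theorem congruence (htr : Trans P M) (hZ : Z ≤ M) {x : G} (hx : Sing x) (hxM : x ∈ M) {c : ℕ}
    (hc : c * Nat.card (chiM P M).range = q ^ 2 - 1) {j : ℕ} (hj : nn q = j * sv M x) :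
    sv M x ∣ (cen M x).relIndex (nor M x) * c + 3 * (Nat.card ↥(M ⊓ rad K P) * j) := by
  have h := congr_of_index (q := q) (s := sv M x) (by have := K.two_le; omega)
    ((sv_dvd K hx hZ).trans (gcd_mul_nn (q := q) ▸ dvd_mul_left _ _))
    (sv_dvd_conj K hx hxM hZ) (Nat.pos_of_ne_zero Subgroup.index_ne_zero_of_finite) (ne_eq K P M htr hZ hj) hc
  rwa [mul_comm (Nat.card ↥(M ⊓ rad K P)) j, mul_comm j]

theorem exists_sing (htr : Trans P M) {l : ℕ} (hl : l.Prime) (h : l ∣ nn q) :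
    ∃ x : G, x ∈ M ∧ Sing x ∧ orderOf x = l := by
  have := Fact.mk hl
  obtain ⟨-, -, h1, h2, -⟩ := prime_dvd_nn hl h
  obtain ⟨⟨x, hx⟩, ho⟩ : ∃ t : M, orderOf t = l := exists_prime_orderOf_dvd_card' l (by
    rw [card_M K P M htr, cube_add_one (by have := K.two_le; omega), ← gcd_mul_nn]
    exact Dvd.dvd.mul_right (Dvd.dvd.mul_left (Dvd.dvd.mul_left h _) _) _)
  rw [Subgroup.orderOf_mk] at ho
  exact ⟨x, hx, sing_of_prime K hl ho h1 h2, ho⟩

theorem not_dvd_cofactor (htr : Trans P M) (hZ : Z ≤ M) {x : G} (hx : Sing x) {j l : ℕ}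
    (hj : nn q = j * sv M x) (hl : l.Prime) (hlj : l ∣ j) : ¬ l ∣ sv M x := fun hls => by
  refine not_dvd_index K hx hl hls hZ ?_
  rw [← Subgroup.relIndex_mul_relIndex _ _ _ (cen_le_nor K) inf_le_left, mul_comm, ne_eq K P M htr hZ hj]
  exact Dvd.dvd.mul_right (Dvd.dvd.mul_right (Dvd.dvd.mul_left hlj _) _) _

/-- The classes and the fixing elements are disjoint in the subgroup. -/
theorem card_covered (hZ : Z ≤ M) {x : G} (hx : Sing x) :
    (cl M x).ncard + (anyFix P M).ncard ≤ Nat.card M := by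
  rw [← Set.ncard_union_eq _ (Set.toFinite _) (Set.toFinite _)]
  · exact (Set.ncard_le_ncard (Set.union_subset (cl_subset K) fun g hg => hg.1) (Set.toFinite _)).trans_eq
      (Nat.card_coe_set_eq (M : Set G)).symm
  · rw [Set.disjoint_left]
    rintro z hz ⟨-, t, ht⟩
    induction t using QuotientGroup.induction_on with | _ k =>
    exact cl_no_fix K hx P hz k ((mem_fx_coe P).1 ht)

theorem card_covered_two (hZ : Z ≤ M) {x x' : G} (hx : Sing x) (hx' : Sing x') (hne : sv M x ≠ sv M x') :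
    (cl M x).ncard + (cl M x').ncard + (anyFix P M).ncard ≤ Nat.card M := by
  rw [← Set.ncard_union_eq (cl_disjoint K hZ hx hx' hne) (Set.toFinite _) (Set.toFinite _),
    ← Set.ncard_union_eq _ (Set.toFinite _) (Set.toFinite _)]
  · exact (Set.ncard_le_ncard (Set.union_subset (Set.union_subset (cl_subset K) (cl_subset K)) fun g hg => hg.1)
      (Set.toFinite _)).trans_eq (Nat.card_coe_set_eq (M : Set G)).symm
  · rw [Set.disjoint_left]
    rintro z hz ⟨-, t, ht⟩
    induction t using QuotientGroup.induction_on with | _ k =>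
    rcases hz with hz | hz
    · exact cl_no_fix K hx P hz k ((mem_fx_coe P).1 ht)
    · exact cl_no_fix K hx' P hz k ((mem_fx_coe P).1 ht)

/-- A class fills its share of the subgroup. -/
theorem cl_share (hZ : Z ≤ M) {x : G} (hx : Sing x) {e b : ℕ} (he : (cen M x).relIndex (nor M x) = e)
    (hb : b ≤ sv M x) : Nat.card M * (b - 1) ≤ b * e * (cl M x).ncard := by
  have h1 := card_cl K hx hZ
  have h2 := card_eq (x := x) K hZ
  rw [he] at h2
  set s := sv M x
  set n := (nor M x).relIndex M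
  set d := Nat.gcd 3 (q + 1)
  have hs : s * (b - 1) ≤ b * (s - 1) := by
    rw [Nat.mul_sub_one, Nat.mul_sub_one, mul_comm b s]
    omega
  calc Nat.card M * (b - 1) = n * e * d * (s * (b - 1)) := by rw [← h2]; ring
    _ ≤ n * e * d * (b * (s - 1)) := Nat.mul_le_mul_left _ hs
    _ = b * e * (n * ((s - 1) * d)) := by ring
    _ ≤ _ := Nat.mul_le_mul_left _ h1

/-- A self-normalising torus leaves too little room. -/
theorem not_self_normal (htr : Trans P M) (hZ : Z ≤ M) {x : G} (hx : Sing x) (hxM : x ∈ M)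
    (h7 : 7 ≤ sv M x) (hW : 3 * (threeFix P M).ncard ≤ 2 * Nat.card ↥(M ⊓ pointStab P)) :
    (cen M x).relIndex (nor M x) = 3 := by
  refine (nor_index K hx hxM).resolve_left fun he => ?_
  have h1 := cl_share K M hZ hx he h7
  have h2 := card_covered K P M hZ hx
  have h3 := burnside K P M htr
  have h4 : 3 * ((q ^ 3 + 1) * (threeFix P M).ncard) ≤ 2 * Nat.card M := by
    rw [card_M K P M htr]
    calc _ = (q ^ 3 + 1) * (3 * (threeFix P M).ncard) := by ring
      _ ≤ (q ^ 3 + 1) * (2 * Nat.card ↥(M ⊓ pointStab P)) := Nat.mul_le_mul_left _ hW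
      _ = _ := by ring
  have h5 : 0 < Nat.card M := Nat.card_pos
  omega

/-- Two classes of tori leave too little room. -/
theorem not_two (htr : Trans P M) (hZ : Z ≤ M) {x x' : G} (hx : Sing x) (hxM : x ∈ M) (hx' : Sing x')
    (hx'M : x' ∈ M) (h7 : 7 ≤ sv M x) (h13 : 13 ≤ sv M x')
    (hne : sv M x ≠ sv M x') (hW : 6 * (threeFix P M).ncard ≤ Nat.card ↥(M ⊓ pointStab P)) : False := by
  have hW3 : 3 * (threeFix P M).ncard ≤ 2 * Nat.card ↥(M ⊓ pointStab P) := by omega
  have h1 := cl_share K M hZ hx (not_self_normal K P M htr hZ hx hxM h7 hW3) h7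
  have h1' := cl_share K M hZ hx' (not_self_normal K P M htr hZ hx' hx'M (by omega) hW3) h13
  have h2 := card_covered_two K P M hZ hx hx' hne
  have h3 := burnside K P M htr
  have h4 : 6 * ((q ^ 3 + 1) * (threeFix P M).ncard) ≤ Nat.card M := by
    rw [card_M K P M htr]
    calc _ = (q ^ 3 + 1) * (6 * (threeFix P M).ncard) := by ring
      _ ≤ _ := Nat.mul_le_mul_left _ hW
  have h5 : 0 < Nat.card M := Nat.card_pos
  omega

/-- Two classes, unless the centraliser is everything. -/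
theorem exists_second (htr : Trans P M) (hZ : Z ≤ M) {x : G} (hx : Sing x) (hne : sv M x ≠ nn q) :
    ∃ x' : G, x' ∈ M ∧ Sing x' ∧ sv M x' ≠ sv M x ∧ 7 ≤ sv M x' ∧ (13 ≤ sv M x ∨ 13 ≤ sv M x' ∨ sv M x = 1) := by
  obtain ⟨j, hj⟩ := sv_dvd K hx hZ
  rw [mul_comm] at hj
  have hj1 : j ≠ 1 := fun e => hne (by rw [hj, e, one_mul])
  obtain ⟨l, hl, hlj⟩ := Nat.exists_prime_and_dvd hj1
  have hlnn : l ∣ nn q := hj ▸ Dvd.dvd.mul_right hlj _
  obtain ⟨x', hx'M, hx', ho⟩ := exists_sing K P M htr hl hlnn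
  have hl' : l ∣ sv M x' := by
    have h1 : l ∣ Nat.card (cen M x') := by
      rw [← ho, ← Subgroup.orderOf_mk x' ((mem_cen M).2 ⟨hx'M, rfl⟩ : x' ∈ cen M x')]
      exact orderOf_dvd_natCard _
    rw [card_cen K hZ] at h1
    refine (hl.dvd_mul.1 h1).resolve_left fun h => ?_
    have := Nat.le_of_dvd three_pos (h.trans (Nat.gcd_dvd_left _ _))
    have := (prime_dvd_nn hl hlnn).1
    omega
  have hls : ¬ l ∣ sv M x := not_dvd_cofactor K P M htr hZ hx hj hl hlj
  have hpos : ∀ y : G, 0 < sv M y := fun y => Nat.pos_of_ne_zero Subgroup.index_ne_zero_of_finite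
  have h7 : 7 ≤ sv M x' := (prime_dvd_nn hl hlnn).1.trans (Nat.le_of_dvd (hpos x') hl')
  refine ⟨x', hx'M, hx', fun e => hls (e ▸ hl'), h7, ?_⟩
  by_cases h1 : sv M x = 1
  · exact Or.inr (Or.inr h1)
  obtain ⟨l₀, hl₀, hl₀s⟩ := Nat.exists_prime_and_dvd h1
  rcases two_le_or_thirteen hl₀ (hl₀s.trans (sv_dvd K hx hZ)) hl hlnn (fun e => hls (e ▸ hl₀s)) with h | h
  · exact Or.inl (h.trans (Nat.le_of_dvd (hpos x) hl₀s))
  · exact Or.inr (Or.inl (h.trans (Nat.le_of_dvd (hpos x') hl')))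

omit K in
theorem seven_le_of_dvd {n : ℕ} (hn : n ∣ nn q) (h1 : n ≠ 1) : 7 ≤ n := by
  obtain ⟨l, hl, hd⟩ := Nat.exists_prime_and_dvd h1
  exact (prime_dvd_nn hl (hd.trans hn)).1.trans (Nat.le_of_dvd (Nat.pos_of_ne_zero fun e => by
    rw [e, Nat.zero_dvd] at hn; exact (nn_pos (q := q)).ne' hn) hd)

theorem one_lt_nn (hq : 3 ≤ q) : 1 < nn q := by
  by_contra h
  have h1 := gcd_mul_nn (q := q)
  have h2 : Nat.gcd 3 (q + 1) ≤ 3 := Nat.le_of_dvd three_pos (Nat.gcd_dvd_left _ _)
  have h3 : 3 * q ≤ q ^ 2 := by nlinarith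
  have h4 : Nat.gcd 3 (q + 1) * nn q ≤ 3 * 1 := Nat.mul_le_mul h2 (by omega)
  omega

theorem exists_first (htr : Trans P M) (hZ : Z ≤ M) (hq : 3 ≤ q) :
    ∃ x : G, x ∈ M ∧ Sing x ∧ 7 ≤ sv M x := by
  obtain ⟨l, hl, hd⟩ := Nat.exists_prime_and_dvd (show nn q ≠ 1 from (one_lt_nn K hq).ne')
  obtain ⟨x, hxM, hx, -⟩ := exists_sing K P M htr hl hd
  exact ⟨x, hxM, hx, seven_le_of_dvd (sv_dvd K hx hZ) (one_lt_sv K hx hxM).ne'⟩

/-- One class over a prime order. -/
theorem single (htr : Trans P M) (hZ : Z ≤ M) (hq : 3 ≤ q) {c : ℕ} (hc : c * Nat.card (chiM P M).range = q ^ 2 - 1)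
    (hp : (nn q).Prime) : ∃ e ∈ [1, 3], nn q ∣ e * c + 3 * Nat.card ↥(M ⊓ rad K P) := by
  obtain ⟨x, hxM, hx, h7⟩ := exists_first K P M htr hZ hq
  have hs : sv M x = nn q := (hp.eq_one_or_self_of_dvd _ (sv_dvd K hx hZ)).resolve_left (by omega)
  have h := congruence K P M htr hZ hx hxM hc (j := 1) (by rw [one_mul, hs])
  rw [hs, mul_one] at h
  exact ⟨_, by rcases nor_index K hx hxM with e | e <;> simp [e], h⟩

theorem card_rad_dvd : Nat.card ↥(M ⊓ rad K P) ∣ q ^ 3 :=
  card_rad_eq K P ▸ Subgroup.card_dvd_of_le inf_le_right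

omit K in
theorem ncard_pow_eq (n : ℕ) (b : F) (hn : 0 < n) : {a : F | a ^ n = b}.ncard ≤ n := by
  classical
  have h : {a : F | a ^ n = b} = ↑(Polynomial.nthRoots n b).toFinset := by
    ext a; simp [Polynomial.mem_nthRoots hn]
  rw [h, Set.ncard_coe_finset]
  exact (Multiset.toFinset_card_le _).trans (Polynomial.card_nthRoots n b)

theorem chiM_eq {g : G} (hg : g ∈ M ⊓ pointStab P) :
    app g P.v = (chiM P M ⟨g, hg⟩ : F) • P.v := chi_spec P ⟨g, hg.2⟩

theorem threeFix_le_norm : (threeFix P M).ncard ≤ (q + 1) * Nat.card ↥(M ⊓ rad K P) := by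
  have := card_three_le K P M {a : F | a * K.bar a = 1} 0 ∅ (by simp)
    fun g hg _ hgB => (three_shape K P hgB hg.2.2).1
  rwa [show ({a : F | a * K.bar a = 1}).ncard = q + 1 from (Nat.card_coe_set_eq _).symm.trans (card_norm_one K),
    add_zero] at this

theorem threeFix_le_six (h : Nat.card (parZ K P M) = 1) (hA : parA K P M ≠ ⊥) :
    (threeFix P M).ncard ≤ 3 * Nat.card ↥(M ⊓ rad K P) + 3 := by
  obtain ⟨x, hx, hx0⟩ : ∃ x ∈ parA K P M, x 0 ≠ 0 := by
    by_contra hc
    push Not at hc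
    exact hA ((AddSubgroup.eq_bot_iff_forall _).2 fun x hx => funext fun i => by rw [Subsingleton.elim i 0]; exact hc x hx)
  refine (card_three_le K P M {a : F | a ^ 3 = -1} 3 (Z : Set G) ?_ fun g hg hgZ hgB => ?_).trans ?_
  · rw [← Nat.card_coe_set_eq]
    exact le_trans (le_of_eq (card_Z K)) (Nat.le_of_dvd three_pos (Nat.gcd_dvd_left _ _))
  · obtain ⟨hN, h3⟩ := three_shape K P hgB hg.2.2
    have h6 := pow_six K P M h hx hx0 hg.1 (chi_spec P ⟨g, hgB⟩) hN
    show _ ^ 3 = (-1 : F)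
    set a := chi P ⟨g, hgB⟩
    have h2 : (a ^ 3 - 1) * (a ^ 3 + 1) = 0 := by linear_combination h6
    rcases mul_eq_zero.1 h2 with h' | h'
    · exact absurd (h3 (sub_eq_zero.1 h')) hgZ
    · exact eq_neg_of_add_eq_zero_left h'
  · exact Nat.add_le_add_right (Nat.mul_le_mul_right _ (ncard_pow_eq 3 (-1 : F) three_pos)) _

theorem rad_le_prod : Nat.card ↥(M ⊓ rad K P) ≤ Nat.card (parA K P M) * Nat.card (parZ K P M) :=
  card_inter_rad K P M

/-- Odd fields without transvections. -/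
theorem not_odd (htr : Trans P M) (hZ : Z ≤ M) (hq : 3 ≤ q) (h5 : q ≠ 5) (hodd : Odd q)
    (hi : M.index ≤ q ^ 3) (hs : Nat.card (parZ K P M) = 1) : False := by
  obtain ⟨c, hc, hc1, hcp, hB⟩ := basic K P M htr hi
  set pk := Nat.card ↥(M ⊓ rad K P) with hpk
  have hpkq : pk ≤ q := by
    have := rad_le_prod K P M
    rw [hs, mul_one] at this
    exact this.trans (card_parA_le K P M hs)
  obtain ⟨p, k, hp, hqp, -⟩ := exists_prime_pow K
  rcases Nat.lt_or_ge q 7 with h7 | h7
  · -- three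
    obtain rfl : q = 3 := by obtain ⟨t, ht⟩ := hodd; omega
    have hnn : nn 3 = 7 := by decide
    obtain ⟨e, he, hd⟩ := single K P M htr hZ hq hc (hnn ▸ by norm_num)
    rw [hnn, ← hpk] at hd
    obtain ⟨i, -, hi'⟩ := (Nat.dvd_prime_pow Nat.prime_three).1 (card_rad_dvd K P M)
    have hpmem : pk ∈ [1, 3] := by
      rw [← hpk] at hi'
      rcases i with _ | _ | i
      · simp [hi']
      · simp [hi']
      · have : 9 ≤ pk := hi' ▸ le_of_le_of_eq (Nat.le_mul_of_pos_left 9 (pow_pos three_pos i)) (by ring)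
        omega
    exact three_arith e he pk hpmem c (Finset.mem_range.2 (by omega))
      (Nat.mod_eq_zero_of_dvd (Dvd.intro _ (hc.trans (by norm_num)))) (Nat.mod_eq_zero_of_dvd hd)
  have hW : (q - 1) * (threeFix P M).ncard ≤ 3 * Nat.card ↥(M ⊓ pointStab P) := by
    by_cases hA : parA K P M = ⊥
    · have h1 : pk ≤ 1 := by
        have := rad_le_prod K P M
        rwa [hA, AddSubgroup.card_bot, hs] at this
      calc (q - 1) * (threeFix P M).ncard ≤ (q - 1) * ((q + 1) * 1) :=
            Nat.mul_le_mul_left _ ((threeFix_le_norm K P M).trans (Nat.mul_le_mul_left _ h1))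
        _ = q ^ 2 - 1 := by rw [mul_one, mul_comm, ← Nat.sq_sub_sq, one_pow]
        _ ≤ _ := by omega
    · calc (q - 1) * (threeFix P M).ncard ≤ (q - 1) * (3 * pk + 3) :=
            Nat.mul_le_mul_left _ (threeFix_le_six K P M hs hA)
        _ ≤ (q - 1) * (3 * (q + 1)) := Nat.mul_le_mul_left _ (by omega)
        _ = 3 * (q ^ 2 - 1) := by rw [show q ^ 2 - 1 = (q + 1) * (q - 1) by rw [← Nat.sq_sub_sq, one_pow]]; ring
        _ ≤ _ := by omega
  have hW3 : 3 * (threeFix P M).ncard ≤ 2 * Nat.card ↥(M ⊓ pointStab P) := by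
    have : 6 * (threeFix P M).ncard ≤ (q - 1) * (threeFix P M).ncard := Nat.mul_le_mul_right _ (by omega)
    omega
  have hd3 : Nat.gcd 3 (q + 1) ≤ 3 := Nat.le_of_dvd three_pos (Nat.gcd_dvd_left _ _)
  have hall : ∀ y, y ∈ M → Sing y → 7 ≤ sv M y → sv M y ≠ nn q := fun y hyM hy hy7 hsn => by
    have h := congruence K P M htr hZ hy hyM hc (j := 1) (by rw [one_mul, hsn])
    rw [not_self_normal K P M htr hZ hy hyM hy7 hW3, mul_one, ← hpk, hsn, ← mul_add] at h
    have h2 : nn q ∣ c + pk := Nat.Coprime.dvd_of_dvd_mul_left (hsn ▸ sv_coprime_three K hy) h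
    have h3 := Nat.le_of_dvd (by omega) h2
    have h4 := gcd_mul_nn (q := q)
    have h6 : 7 * q ≤ q ^ 2 := by nlinarith
    have : Nat.gcd 3 (q + 1) * nn q ≤ 3 * (q + q) := Nat.mul_le_mul hd3 (by omega)
    omega
  obtain ⟨x, hxM, hx, hx7⟩ := exists_first K P M htr hZ hq
  obtain ⟨x', hx'M, hx', hne, hx'7, h13⟩ := exists_second K P M htr hZ hx (hall x hxM hx hx7)
  rcases Nat.lt_or_ge q 19 with h19 | h19
  · -- the small fields
    have hpr : q = 7 ∨ q = 9 ∨ q = 11 ∨ q = 13 ∨ q = 15 ∨ q = 17 := by obtain ⟨t, ht⟩ := hodd; omega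
    rcases hpr with rfl | rfl | rfl | rfl | rfl | rfl
    iterate 5
      · refine hall x hxM hx hx7 (((Nat.Prime.eq_one_or_self_of_dvd ?_ _ (sv_dvd K hx hZ))).resolve_left (by omega))
        norm_num [nn]
    have hnn : nn 17 = 91 := by decide
    have hdiv : Nat.divisors 91 = {1, 7, 13, 91} := by decide
    have hmem : ∀ y, y ∈ M → Sing y → 7 ≤ sv M y → sv M y = 7 ∨ sv M y = 13 := by
      intro y hyM hy h7y
      have hm : sv M y ∈ Nat.divisors 91 := Nat.mem_divisors.2 ⟨hnn ▸ sv_dvd K hy hZ, by norm_num⟩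
      rw [hdiv] at hm
      simp at hm
      have := hall y hyM hy h7y
      omega
    have hpk' : pk ∈ [1, 17] := by
      obtain ⟨i, -, hi'⟩ := (Nat.dvd_prime_pow (show Nat.Prime 17 by norm_num)).1 (card_rad_dvd K P M)
      rw [← hpk] at hi'
      rcases i with _ | _ | i
      · simp [hi']
      · simp [hi']
      · have : 17 ^ 2 ≤ pk := hi' ▸ Nat.pow_le_pow_right (by norm_num) (show 2 ≤ i + 2 by omega)
        omega
    have hcong : ∀ y, y ∈ M → Sing y → 7 ≤ sv M y → ∀ j, nn 17 = j * sv M y →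
        (3 * c + 3 * (pk * j)) % sv M y = 0 := fun y hyM hy h7y j hj => Nat.mod_eq_zero_of_dvd (by
      have := congruence K P M htr hZ hy hyM hc hj
      rwa [not_self_normal K P M htr hZ hy hyM h7y hW3, ← hpk] at this)
    obtain ⟨a, b, haM, ha, ha7, hbM, hb, hb13⟩ :
        ∃ a b : SU (2 + 1) F 17, a ∈ M ∧ Sing a ∧ sv M a = 7 ∧ b ∈ M ∧ Sing b ∧ sv M b = 13 := by
      rcases hmem x hxM hx hx7 with e | e <;> rcases hmem x' hx'M hx' hx'7 with e' | e'
      · omega
      · exact ⟨x, x', hxM, hx, e, hx'M, hx', e'⟩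
      · exact ⟨x', x, hx'M, hx', e', hxM, hx, e⟩
      · omega
    refine seventeen_arith pk hpk' c (Finset.mem_range.2 (by omega)) (by omega) ⟨?_, ?_⟩
    · have := hcong a haM ha (by omega) 13 (by rw [hnn, ha7])
      rwa [ha7] at this
    · have := hcong b hbM hb (by omega) 7 (by rw [hnn, hb13])
      rwa [hb13] at this
  have hW6 : 6 * (threeFix P M).ncard ≤ Nat.card ↥(M ⊓ pointStab P) := by
    have : 18 * (threeFix P M).ncard ≤ (q - 1) * (threeFix P M).ncard := Nat.mul_le_mul_right _ (by omega)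
    omega
  rcases h13 with h | h | h
  · exact not_two K P M htr hZ hx' hx'M hx hxM hx'7 h hne hW6
  · exact not_two K P M htr hZ hx hxM hx' hx'M hx7 h (Ne.symm hne) hW6
  · omega

theorem norm_one_of_two (h : Nat.card (parZ K P M) = 2) {g : G} (hg : g ∈ M) {a : F}
    (hga : app g P.v = a • P.v) : a * K.bar a = 1 := by
  obtain ⟨w, hw0, hw⟩ := (Nat.card_eq_two_iff' (0 : parZ K P M)).1 h
  have ha : a ≠ 0 := fun e => app_ne_zero g (v_ne P) (by rw [hga, e, zero_smul])
  have hne : (w : F) ≠ 0 := fun e => hw0 (Subtype.ext e)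
  have e := congrArg Subtype.val (hw ⟨_, conj_parZ K P M hg hga w.2⟩ fun e =>
    mul_ne_zero (mul_ne_zero ha ((map_ne_zero K.bar).2 ha)) hne (congrArg Subtype.val e))
  exact mul_right_cancel₀ hne (e.trans (one_mul _).symm)

/-- Even fields. -/
theorem not_even (htr : Trans P M) (hZ : Z ≤ M) (hq : 3 ≤ q) (heven : Even q) (hi : M.index ≤ q ^ 3)
    (hs : Nat.card (parZ K P M) = 1 ∨ Nat.card (parZ K P M) = 2) : False := by
  obtain ⟨p, k, hp, hqp, hchar⟩ := exists_prime_pow K
  have hp2 : p = 2 := ((Nat.prime_dvd_prime_iff_eq Nat.prime_two hp).1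
    (Nat.prime_two.dvd_of_dvd_pow (hqp ▸ heven.two_dvd))).symm
  subst hp2
  have h2 : (2 : F) = 0 := CharP.cast_eq_zero F 2
  obtain ⟨c, hc, hc1, hcp, hB⟩ := basic K P M htr hi
  set pk := Nat.card ↥(M ⊓ rad K P) with hpk
  by_cases hA : parA K P M = ⊥
  · have hpk2 : pk ≤ 2 := by
      have := rad_le_prod K P M
      rw [hA, AddSubgroup.card_bot, one_mul, ← hpk] at this
      omega
    have hW : (q - 1) * (threeFix P M).ncard ≤ 2 * Nat.card ↥(M ⊓ pointStab P) := by
      calc (q - 1) * (threeFix P M).ncard ≤ (q - 1) * ((q + 1) * 2) :=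
            Nat.mul_le_mul_left _ ((threeFix_le_norm K P M).trans (Nat.mul_le_mul_left _ hpk2))
        _ = 2 * (q ^ 2 - 1) := by rw [show q ^ 2 - 1 = (q + 1) * (q - 1) by rw [← Nat.sq_sub_sq, one_pow]]; ring
        _ ≤ _ := by omega
    have hW3 : 3 * (threeFix P M).ncard ≤ 2 * Nat.card ↥(M ⊓ pointStab P) := by
      have : 3 * (threeFix P M).ncard ≤ (q - 1) * (threeFix P M).ncard := Nat.mul_le_mul_right _ (by
        obtain ⟨t, ht⟩ := heven; omega)
      omega
    obtain ⟨x, hxM, hx, hx7⟩ := exists_first K P M htr hZ hq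
    by_cases hsn : sv M x = nn q
    · have h := congruence K P M htr hZ hx hxM hc (j := 1) (by rw [one_mul, hsn])
      rw [not_self_normal K P M htr hZ hx hxM hx7 hW3, mul_one, ← hpk, hsn, ← mul_add] at h
      have h2 := Nat.le_of_dvd (by omega)
        (Nat.Coprime.dvd_of_dvd_mul_left (hsn ▸ sv_coprime_three K hx) h)
      omega
    obtain ⟨x', hx'M, hx', hne, hx'7, h13⟩ := exists_second K P M htr hZ hx hsn
    rcases Nat.lt_or_ge q 13 with h13q | h13q
    · have hk : k = 2 ∨ k = 3 := by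
        rcases k with _ | _ | _ | _ | k
        · omega
        · omega
        · exact Or.inl rfl
        · exact Or.inr rfl
        · have : 16 ≤ q := by
            rw [hqp]
            exact le_of_eq_of_le (by norm_num) (Nat.pow_le_pow_right two_pos (show 4 ≤ k + 4 by omega))
          omega
      rcases hk with rfl | rfl <;>
        refine hsn (((Nat.Prime.eq_one_or_self_of_dvd ?_ _ (sv_dvd K hx hZ))).resolve_left (by omega)) <;>
        subst hqp <;> norm_num [nn]
    have hW6 : 6 * (threeFix P M).ncard ≤ Nat.card ↥(M ⊓ pointStab P) := by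
      have : 12 * (threeFix P M).ncard ≤ (q - 1) * (threeFix P M).ncard := Nat.mul_le_mul_right _ (by omega)
      omega
    rcases h13 with h | h | h
    · exact not_two K P M htr hZ hx' hx'M hx hxM hx'7 h hne hW6
    · exact not_two K P M htr hZ hx hxM hx' hx'M hx7 h (Ne.symm hne) hW6
    · omega
  have hs2 : Nat.card (parZ K P M) = 2 := hs.resolve_left fun h => hA (parA_eq_bot_of_one K P M h2 h)
  obtain ⟨x, hx, hx0⟩ : ∃ x ∈ parA K P M, x 0 ≠ 0 := by
    by_contra hc
    push Not at hc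
    exact hA ((AddSubgroup.eq_bot_iff_forall _).2 fun x hx => funext fun i => by rw [Subsingleton.elim i 0]; exact hc x hx)
  -- at most four parameters
  have hA4 : Nat.card (parA K P M) ≤ 4 := by
    classical
    let f : parA K P M → Option {r : F // r ^ 3 = 1} := fun y =>
      if hy : (y : Fin 1 → F) 0 = 0 then none else some ⟨_, ratio_cube K P M h2 hs2 hx y.2 hx0 hy⟩
    refine (Nat.card_le_card_of_injective f fun a b e => ?_).trans ?_
    · refine Subtype.ext (funext fun i => ?_)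
      rw [Subsingleton.elim i 0]
      simp only [f] at e
      split_ifs at e with ha hb hb
      · rw [ha, hb]
      · exact (div_left_inj' hx0).1 (congrArg Subtype.val (Option.some.inj e))
    · rw [Finite.card_option]
      have := ncard_pow_eq 3 (1 : F) three_pos
      rw [← Nat.card_coe_set_eq] at this
      have e : Nat.card {r : F // r ^ 3 = 1} = Nat.card ({a : F | a ^ 3 = 1} : Set F) := rfl
      omega
  have hpk8 : pk ≤ 8 := by
    have := rad_le_prod K P M
    rw [hs2, ← hpk] at this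
    omega
  obtain ⟨γ, hγ⟩ := IsCyclic.exists_ofOrder_eq_natCard (α := (chiM P M).range)
  obtain ⟨⟨g, hg⟩, hgγ⟩ := γ.2
  have hga := chiM_eq K P M hg
  rw [hgγ] at hga
  set a : F := ((γ : Fˣ) : F)
  have hN := norm_one_of_two K P M hs2 hg.1 hga
  have ha9 : a ^ 9 = 1 := by
    have h1 := conj_parA K P M hg.1 hga hx
    have hb : K.bar a = a⁻¹ := eq_inv_of_mul_eq_one_right hN
    have ha0 : a ≠ 0 := left_ne_zero_of_mul_eq_one hN
    have h3 := ratio_cube K P M h2 hs2 hx h1 hx0
      (mul_ne_zero (mul_ne_zero ((map_ne_zero K.bar).2 ha0) (mul_ne_zero ((map_ne_zero K.bar).2 ha0) (inv_ne_zero ha0))) hx0)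
    rw [Pi.smul_apply, smul_eq_mul, mul_div_cancel_right₀ _ hx0, hb] at h3
    have : (a⁻¹) ^ 9 = 1 := by rw [← h3]; ring
    rwa [inv_pow, inv_eq_one] at this
  have hq1 : a ^ (q + 1) = 1 := by rw [pow_succ', ← bar_eq_pow K]; exact hN
  have hpow : ∀ n, a ^ n = 1 → Nat.card (chiM P M).range ∣ n := fun n hn => by
    rw [← hγ]
    exact orderOf_dvd_of_pow_eq_one (Subtype.ext (Units.ext (by push_cast; exact hn)))
  set L := Nat.card (chiM P M).range
  have hL9 : L ≤ 9 := Nat.le_of_dvd (by norm_num) (hpow 9 ha9)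
  have hq8 : q ≤ 8 := by
    by_contra hbig
    have : 80 ≤ q ^ 2 - 1 := by
      have := Nat.pow_le_pow_left (show 9 ≤ q by omega) 2
      omega
    have : c * L ≤ 8 * 9 := Nat.mul_le_mul (by omega) hL9
    omega
  have hk : q = 4 ∨ q = 8 := by
    rcases k with _ | _ | _ | _ | k
    · omega
    · omega
    · exact Or.inl hqp
    · exact Or.inr hqp
    · have : 16 ≤ q := by
        rw [hqp]
        exact le_of_eq_of_le (by norm_num) (Nat.pow_le_pow_right two_pos (show 4 ≤ k + 4 by omega))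
      omega
  have hL := Nat.dvd_gcd (hpow 9 ha9) (hpow _ hq1)
  rcases hk with rfl | rfl
  · norm_num at hL hc
    rw [hL, mul_one] at hc
    omega
  · norm_num at hL hc
    have hL9' : L = 9 := by
      have : L ∈ Nat.divisors 9 := Nat.mem_divisors.2 ⟨hL, by norm_num⟩
      rw [show Nat.divisors 9 = {1, 3, 9} by decide] at this
      simp at this
      rcases this with h | h | h <;> rw [h] at hc <;> omega
    rw [hL9'] at hc
    have hc7 : c = 7 := by omega
    have hpk' : pk = 8 := by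
      obtain ⟨i, -, hi'⟩ := (Nat.dvd_prime_pow Nat.prime_two).1
        (show pk ∣ 2 ^ 9 from (card_rad_dvd K P M).trans (by norm_num))
      rcases i with _ | _ | _ | _ | i
      · rw [hi'] at hcp; norm_num at hcp; omega
      · rw [hi'] at hcp; norm_num at hcp; omega
      · rw [hi'] at hcp; norm_num at hcp; omega
      · exact hi'
      · have : 16 ≤ pk := hi' ▸ le_of_eq_of_le (by norm_num) (Nat.pow_le_pow_right two_pos (show 4 ≤ i + 4 by omega))
        omega
    have hnn : nn 8 = 19 := by decide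
    obtain ⟨e, he, hd⟩ := single K P M htr hZ hq (c := c) (by show c * L = _; rw [hL9', hc7]; norm_num) (hnn ▸ by norm_num)
    rw [hnn, ← hpk, hpk', hc7] at hd
    exact eight_arith e he (Nat.mod_eq_zero_of_dvd hd)

theorem not_nine (htr : Trans P M) (hZ : Z ≤ M) (hq : q = 9) (hi : M.index ≤ q ^ 3)
    (hs : Nat.card (parZ K P M) = 3) : False := by
  subst hq
  obtain ⟨c, hc, hc1, hcp, -⟩ := basic K P M htr hi
  set pk := Nat.card ↥(M ⊓ rad K P) with hpk
  have hA : Nat.card (parA K P M) ≤ 27 := by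
    have h : Nat.card (parA K P M) ∣ 3 ^ 4 := by
      refine (AddSubgroup.card_addSubgroup_dvd_card _).trans (dvd_of_eq ?_)
      rw [card_F_pow K]
      norm_num
    obtain ⟨i, hi4, he⟩ := (Nat.dvd_prime_pow Nat.prime_three).1 h
    rcases Nat.lt_or_ge i 4 with h' | h'
    · rw [he]; exact le_of_le_of_eq (Nat.pow_le_pow_right three_pos (show i ≤ 3 by omega)) (by norm_num)
    · have : parA K P M = ⊤ := AddSubgroup.eq_top_of_card_eq _ (by
        rw [he, show i = 4 by omega, card_F_pow K]; norm_num)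
      have := card_parZ_of_parA_top K P M this
      omega
  have hpk81 : pk ≤ 81 := by
    have := rad_le_prod K P M
    rw [hs, ← hpk] at this
    omega
  have hnn : nn 9 = 73 := by decide
  obtain ⟨e, he, hd⟩ := single K P M htr hZ (by norm_num) hc (hnn ▸ by norm_num)
  rw [hnn, ← hpk] at hd
  obtain ⟨i, -, hi'⟩ := (Nat.dvd_prime_pow Nat.prime_three).1
    (show pk ∣ 3 ^ 6 from (card_rad_dvd K P M).trans (by norm_num))
  have hmem : pk ∈ [1, 3, 9, 27, 81] := by
    rcases i with _ | _ | _ | _ | _ | i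
    iterate 5 simp [hi']
    have : 243 ≤ pk := hi' ▸ le_of_eq_of_le (by norm_num) (Nat.pow_le_pow_right three_pos (show 5 ≤ i + 5 by omega))
    omega
  exact nine_arith e he pk hmem c (Finset.mem_range.2 (by omega))
    (Nat.mod_eq_zero_of_dvd (Dvd.intro _ (hc.trans (by norm_num)))) (Nat.mod_eq_zero_of_dvd hd)

omit P in
/-- The bound. -/
theorem index_bound_three (hq : 3 ≤ q) (h5 : q ≠ 5) (hZ : Z ≤ M) (hM : M ≠ ⊤) : q ^ 3 + 1 ≤ M.index := by
  by_contra hlt
  have hi : M.index ≤ q ^ 3 := by omega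
  obtain ⟨P⟩ := exists_hpair K (k := 1)
  have htr := trans_of_index K P M hi
  have hfull : Nat.card (parZ K P M) ≠ q := fun h => hM (eq_top_of_full K P M hq htr h)
  rcases Nat.even_or_odd q with he | ho
  · refine not_even K P M htr hZ hq he hi ?_
    rcases parZ_cases K P M htr with h | h | ⟨h, -⟩ | ⟨h, -⟩
    · exact Or.inl h
    · exact absurd h hfull
    · exact Or.inr h
    · exact absurd he (by rw [h]; decide)
  · rcases parZ_cases K P M htr with h | h | ⟨-, h⟩ | ⟨h9, h3⟩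
    · exact not_odd K P M htr hZ hq h5 ho hi h
    · exact hfull h
    · exact (Nat.not_even_iff_odd.2 ho) h
    · exact not_nine K P M htr hZ h9 hi h3

omit P M in
/-- The minimal index of `PSU_3(q)`. -/
theorem psu_three (hq : 3 ≤ q) (h5 : q ≠ 5) :
    (∀ W : Subgroup (PSU (2 + 1) F q), W ≠ ⊤ → q ^ 3 + 1 ≤ W.index) ∧
      ∃ W : Subgroup (PSU (2 + 1) F q), W.index = q ^ 3 + 1 := by
  refine ⟨fun W hW => ?_, ?_⟩
  · have := index_bound_three K (W.comap (QuotientGroup.mk' (Z))) hq h5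
      (fun z hz => by
        show (QuotientGroup.mk' (Z)) z ∈ W
        rw [show (QuotientGroup.mk' (Z)) z = 1 from (QuotientGroup.eq_one_iff z).2 hz]
        exact W.one_mem)
      (fun e => hW (Subgroup.comap_injective (QuotientGroup.mk'_surjective _) (e.trans (Subgroup.comap_top _).symm)))
    rwa [Subgroup.index_comap_of_surjective W (QuotientGroup.mk'_surjective _)] at this
  · obtain ⟨P⟩ := exists_hpair K (k := 1)
    refine ⟨(pointStab P).map (QuotientGroup.mk' (Z)), ?_⟩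
    rw [Subgroup.index_map_eq _ (QuotientGroup.mk'_surjective _)
      (by rw [QuotientGroup.ker_mk']; exact center_le K P), index_pointStab K P]

end CfsgLib.MinIndexSU3
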