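import Cfsg.Agent.Lib.MinIndexSU3.Geom

/-!
The parameters of the unipotent elements of a subgroup at an isotropic point of a three-dimensional
Hermitian space.
-/

set_option autoImplicit false
set_option linter.unusedSectionVars false

namespace CfsgLib.MinIndexSU3

open Matrix Cfsg CfsgLib.Classical.Herm CfsgLib.Classical.Elation CfsgLib.MinIndexSU
open CfsgLib.ClassicalAut (Unitary.Conj)

variable {F : Type*} [Field F] [Finite F] {q : ℕ} (K : Unitary.Conj F q)

local notation "V" => (Fin (2 + 1) → F)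
local notation "H" => hermForm (2 + 1) F q
local notation "G" => SU (2 + 1) F q

variable (P : HPair (F := F) (q := q) (k := 1)) (M : Subgroup (SU (2 + 1) F q))

include K

theorem conj_parZ {g : G} (hgM : g ∈ M) {a : F} (hg : app g P.v = a • P.v) {t : F} (ht : t ∈ parZ K P M) :
    a * K.bar a * t ∈ parZ K P M := by
  obtain ⟨g₀, hg₀, h⟩ := ht
  have h1 := sg_conj K ((isT_iff K).1 h) g
  rw [hg, show app g (0 : V) = 0 from mulVec_zero _] at h1
  have h2 := sg_smul K a h1 P.hv (h_zero_left K _)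
  rw [smul_zero, ← isT_iff] at h2
  exact ⟨_, M.mul_mem (M.mul_mem hgM hg₀) (M.inv_mem hgM), h2⟩

theorem prj_app_wv {g : G} {a : F} (hg : app g P.v = a • P.v) :
    prj (app g (wv : V)) 0 = K.bar a * a⁻¹ := by
  obtain ⟨s, hs, m, hm, e⟩ := exists_decomp K P le_rfl ⟨a, hg⟩
  obtain ⟨x, t, hsg⟩ := id hs
  have hmv : app m P.v = a • P.v := by
    refine app_injective s ?_
    rw [← app_mul, ← e, hg, app_smul, app_self K hsg]
  rw [e, app_mul, (levi_shape K P hmv hm).2, app_smul, map_smul, Pi.smul_apply, smul_eq_mul,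
    app_eq K hsg, h_wv_v K P, mul_zero, zero_smul, zero_smul, add_zero, add_zero, map_sub, map_smul,
    P.v0, smul_zero, sub_zero, wv, prj_incl, mul_one]

theorem conj_parA {g : G} (hgM : g ∈ M) {a : F} (hg : app g P.v = a • P.v) {x : Fin 1 → F}
    (hx : x ∈ parA K P M) : (K.bar a * (K.bar a * a⁻¹)) • x ∈ parA K P M := by
  obtain ⟨g₀, hg₀, t, h⟩ := hx
  have ha : a ≠ 0 := fun h0 => app_ne_zero g (v_ne P) (by rw [hg, h0, zero_smul])
  have h1 := sg_conj K h g
  rw [hg] at h1
  have hperp : H (app g (incl x : V)) P.v = 0 := by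
    have h2 : H (app g (incl x : V)) (app g P.v) = 0 := by rw [h_app, h_incl_v K P]
    rw [hg, h_smul_right K] at h2
    exact (mul_eq_zero.1 h2).resolve_left ((map_ne_zero K.bar).2 ha)
  obtain ⟨t', h2⟩ := sg_normal K P (sg_smul K a h1 P.hv hperp)
  refine ⟨_, M.mul_mem (M.mul_mem hgM hg₀) (M.inv_mem hgM), t', ?_⟩
  convert h2 using 1
  refine congrArg incl (funext fun i => ?_)
  show _ = prj (K.bar a • app g (incl x : V)) i
  rw [Subsingleton.elim i 0, map_smul, incl_eq K x, app_smul, map_smul, Pi.smul_apply, Pi.smul_apply,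
    Pi.smul_apply, prj_app_wv K P hg, smul_eq_mul, smul_eq_mul, smul_eq_mul]
  ring

theorem card_parZ_le : Nat.card (parZ K P M) ≤ q :=
  (Nat.le_of_dvd Nat.card_pos (AddSubgroup.card_dvd_of_le (parZ_le K P M))).trans_eq (card_skew K)

theorem card_parZ_dvd : Nat.card (parZ K P M) ∣ q :=
  (AddSubgroup.card_dvd_of_le (parZ_le K P M)).trans (dvd_of_eq (card_skew K))

theorem all_T_of_card (h : Nat.card (parZ K P M) = q) : ∀ g c, IsT K g P.v c → g ∈ M := by
  intro g c hg
  have e : parZ K P M = skew K := AddSubgroup.eq_of_le_of_card_ge (parZ_le K P M) (by rw [h, card_skew K])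
  obtain ⟨g', hg', h'⟩ : c ∈ parZ K P M := by rw [e]; exact hg.2.1
  rwa [sg_unique K ((isT_iff K).1 hg) ((isT_iff K).1 h')]

theorem parA_comm {x y : Fin 1 → F} (hx : x ∈ parA K P M) (hy : y ∈ parA K P M) :
    x 0 * K.bar (y 0) - y 0 * K.bar (x 0) ∈ parZ K P M := by
  simpa [h1_apply K] using parA_iso K P M x hx y hy

theorem card_parZ_of_parA_top (h : parA K P M = ⊤) : Nat.card (parZ K P M) = q := by
  conv_rhs => rw [← card_skew K]
  refine congrArg (fun A : AddSubgroup F => Nat.card A) (le_antisymm (parZ_le K P M) fun c hc => ?_)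
  obtain ⟨s, hs⟩ := CfsgLib.ClassicalAut.Unitary.skewSurj (n := 2 + 1) K c (by
    show (1 : F) * c + K.bar c = 0
    rw [one_mul]; exact hc)
  change s - 1 * K.bar s = c at hs
  have := parA_comm K P M (x := fun _ => s) (y := fun _ => 1) (h ▸ AddSubgroup.mem_top _) (h ▸ AddSubgroup.mem_top _)
  rwa [map_one, mul_one, hs] at this

theorem sum_card_parA : Nat.card (parA K P M) ≤ q ^ 2 := by
  rw [← K.card]
  refine Nat.card_le_card_of_injective (fun y => (y : Fin 1 → F) 0) fun a b e => Subtype.ext (funext fun i => ?_)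
  rw [Subsingleton.elim i 0]
  exact e

/-- Without transvections the parameters lie on one real line. -/
theorem card_parA_le (h : Nat.card (parZ K P M) = 1) : Nat.card (parA K P M) ≤ q := by
  have hbot := AddSubgroup.card_eq_one.1 h
  by_cases h0 : ∀ x ∈ parA K P M, x 0 = 0
  · have : parA K P M = ⊥ := (AddSubgroup.eq_bot_iff_forall _).2 fun x hx => funext fun i => by
      rw [Subsingleton.elim i 0]; exact h0 x hx
    rw [this, AddSubgroup.card_bot]
    exact le_trans (by norm_num) K.two_le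
  push Not at h0
  obtain ⟨x, hx, hx0⟩ := h0
  have hreal : ∀ y ∈ parA K P M, K.bar (y 0 / x 0) = y 0 / x 0 := fun y hy => by
    have h1 := parA_comm K P M hx hy
    rw [hbot, AddSubgroup.mem_bot, sub_eq_zero] at h1
    have hx0' : K.bar (x 0) ≠ 0 := (map_ne_zero K.bar).2 hx0
    rw [map_div₀, div_eq_div_iff hx0' hx0]
    linear_combination h1
  conv_rhs => rw [← card_fixed_eq K]
  refine Nat.card_le_card_of_injective (fun y => ⟨(y : Fin 1 → F) 0 / x 0, hreal y y.2⟩) fun a b e =>
    Subtype.ext (funext fun i => ?_)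
  rw [Subsingleton.elim i 0]
  exact (div_left_inj' hx0).1 (congrArg Subtype.val e)

/-- Without transvections a scalar of norm one at the point has order dividing six. -/
theorem pow_six (h : Nat.card (parZ K P M) = 1) {x : Fin 1 → F} (hx : x ∈ parA K P M) (hx0 : x 0 ≠ 0)
    {g : G} (hgM : g ∈ M) {a : F} (hg : app g P.v = a • P.v) (hN : a * K.bar a = 1) : a ^ 6 = 1 := by
  have h1 := parA_comm K P M hx (conj_parA K P M hgM hg hx)
  rw [AddSubgroup.card_eq_one.1 h, AddSubgroup.mem_bot, Pi.smul_apply, smul_eq_mul, map_mul, map_mul, map_mul,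
    map_inv₀, K.bar_bar, sub_eq_zero] at h1
  have ha : a ≠ 0 := left_ne_zero_of_mul_eq_one hN
  have hb : K.bar a = a⁻¹ := eq_inv_of_mul_eq_one_right hN
  have hx0' : K.bar (x 0) ≠ 0 := (map_ne_zero K.bar).2 hx0
  rw [hb, inv_inv] at h1
  field_simp at h1
  linear_combination h1

/-- In characteristic two the norm of a parameter is the parameter of a square. -/
theorem norm_mem (h2 : (2 : F) = 0) {x : Fin 1 → F} (hx : x ∈ parA K P M) :
    x 0 * K.bar (x 0) ∈ parZ K P M := by
  obtain ⟨g, hg, t, h⟩ := hx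
  have h1 := sg_mul K h h
  have hxx : ((incl (F := F) (k := 1)).toAddMonoidHom x : V) + (incl (F := F) (k := 1)).toAddMonoidHom x = 0 := by
    rw [← two_smul F, h2, zero_smul]
  rw [hxx, ← isT_iff] at h1
  have h3 : t + t - H ((incl (F := F) (k := 1)).toAddMonoidHom x) ((incl (F := F) (k := 1)).toAddMonoidHom x) ∈
      parZ K P M := ⟨_, M.mul_mem hg hg, h1⟩
  have h4 := (parZ K P M).neg_mem h3
  rwa [show (incl (F := F) (k := 1)).toAddMonoidHom x = incl x from rfl, h_incl K, h1_apply K,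
    show t + t = 0 by rw [← two_mul, h2, zero_mul], zero_sub, neg_neg] at h4

theorem parA_eq_bot_of_one (h2 : (2 : F) = 0) (h : Nat.card (parZ K P M) = 1) : parA K P M = ⊥ :=
  (AddSubgroup.eq_bot_iff_forall _).2 fun x hx => funext fun i => by
    have h1 := norm_mem K P M h2 hx
    rw [AddSubgroup.card_eq_one.1 h, AddSubgroup.mem_bot] at h1
    rw [Subsingleton.elim i 0]
    rcases mul_eq_zero.1 h1 with h0 | h0
    · exact h0
    · exact (map_eq_zero K.bar).1 h0

/-- With one transvection, two parameters differ by a cube root of one. -/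
theorem ratio_cube (h2 : (2 : F) = 0) (h : Nat.card (parZ K P M) = 2) {x y : Fin 1 → F}
    (hx : x ∈ parA K P M) (hy : y ∈ parA K P M) (hx0 : x 0 ≠ 0) (hy0 : y 0 ≠ 0) : (y 0 / x 0) ^ 3 = 1 := by
  have hnm : ∀ z ∈ parA K P M, z 0 ≠ 0 → z 0 * K.bar (z 0) = x 0 * K.bar (x 0) := by
    intro z hz hz0
    obtain ⟨w, -, hw⟩ := (Nat.card_eq_two_iff' (0 : parZ K P M)).1 h
    have n1 : x 0 * K.bar (x 0) ≠ 0 := mul_ne_zero hx0 ((map_ne_zero K.bar).2 hx0)
    have n2 : z 0 * K.bar (z 0) ≠ 0 := mul_ne_zero hz0 ((map_ne_zero K.bar).2 hz0)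
    exact congrArg Subtype.val ((hw ⟨_, norm_mem K P M h2 hz⟩ fun e => n2 (congrArg Subtype.val e)).trans
      (hw ⟨_, norm_mem K P M h2 hx⟩ fun e => n1 (congrArg Subtype.val e)).symm)
  by_cases hxy : y 0 = x 0
  · rw [hxy, div_self hx0, one_pow]
  have e1 := hnm y hy hy0
  have hs : x + y ∈ parA K P M := (parA K P M).add_mem hx hy
  have hs0 : (x + y) 0 ≠ 0 := fun e => hxy (by
    rw [Pi.add_apply] at e
    linear_combination e - x 0 * h2)
  have e2 := hnm _ hs hs0
  rw [Pi.add_apply, map_add] at e2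
  have hb : K.bar (x 0) ≠ 0 := (map_ne_zero K.bar).2 hx0
  have key : y 0 ^ 2 + x 0 * y 0 + x 0 ^ 2 = 0 := by
    have h5 : (x 0 * K.bar (y 0) + y 0 * K.bar (x 0) + x 0 * K.bar (x 0)) * y 0 = 0 := by
      linear_combination (y 0) * e2 - (y 0) * e1 + (x 0 * K.bar (x 0) * y 0) * h2 -
        (y 0 * (x 0 * K.bar (x 0))) * h2
    refine mul_left_cancel₀ hb ?_
    linear_combination h5 - x 0 * e1 + (x 0 * (x 0 * K.bar (x 0))) * h2 - (x 0 * (x 0 * K.bar (x 0))) * h2
  field_simp
  linear_combination (y 0 - x 0) * key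

end CfsgLib.MinIndexSU3
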