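import Cfsg.Agent.Lib.MinIndexSU3.Dickson
import Cfsg.Agent.Lib.MinIndexSU3.Cubic
import Cfsg.Agent.Lib.MinIndexSU3.Arith

/-!
Elements without eigenvectors and their centralisers.
-/

set_option autoImplicit false
set_option linter.unusedSectionVars false

namespace CfsgLib.MinIndexSU3

open Matrix Cfsg CfsgLib.Classical.Herm CfsgLib.Classical.Elation CfsgLib.MinIndexSU Polynomial
open CfsgLib.ClassicalAut (Unitary.Conj)

variable {F : Type*} [Field F] [Finite F] {q : ℕ} (K : Unitary.Conj F q)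

local notation "V" => (Fin (2 + 1) → F)
local notation "H" => hermForm (2 + 1) F q
local notation "G" => SU (2 + 1) F q
local notation "Z" => Subgroup.center (SU (2 + 1) F q)

/-- The matrix. -/
def mat3 : G →* Matrix (Fin 3) (Fin 3) F where
  toFun g := g.1.1
  map_one' := rfl
  map_mul' _ _ := rfl

theorem mat3_injective : Function.Injective (mat3 (F := F) (q := q)) := fun _ _ h => Subtype.ext (Subtype.ext h)

theorem mat3_mulVec (g : G) (v : V) : mat3 g *ᵥ v = app g v := rfl

/-- The element has no eigenvector. -/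
def Sing (g : G) : Prop := Cubic.NoEig (mat3 g)

theorem commute_iff {x y : G} : y * x = x * y ↔ mat3 y * mat3 x = mat3 x * mat3 y := by
  rw [← map_mul, ← map_mul]
  exact mat3_injective.eq_iff.symm

include K

theorem scalar_iff {g : G} : g ∈ Z ↔ ∃ a : F, mat3 g = a • 1 := center_iff K (show 2 ≤ 2 + 1 by norm_num) g

theorem card_Z : Nat.card Z = Nat.gcd 3 (q + 1) := card_center K (show 2 ≤ 2 + 1 by norm_num)

theorem center_pow_three {z : G} (hz : z ∈ Z) : z ^ 3 = 1 := by
  have h : (⟨z, hz⟩ : Z) ^ Nat.card Z = 1 := pow_card_eq_one'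
  obtain ⟨k, hk⟩ : Nat.card Z ∣ 3 := card_Z K ▸ Nat.gcd_dvd_left _ _
  have h1 : z ^ Nat.card Z = 1 := congrArg Subtype.val h
  rw [hk, pow_mul, h1, one_pow]

/-- An element of prime order prime to the point stabilisers has no eigenvector. -/
theorem sing_of_prime {g : G} {r : ℕ} (hr : r.Prime) (hg : orderOf g = r) (h1 : ¬ r ∣ q)
    (h2 : ¬ r ∣ q ^ 2 - 1) : Sing g := by
  intro a v hv
  by_contra hv0
  change app g v = a • v at hv
  obtain ⟨P⟩ := exists_hpair K (k := 1)
  have hbad : ∀ h : G, orderOf h = r → h ∉ pointStab P := fun h ho hm => by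
    have hd : r ∣ q ^ 3 * (q ^ 2 - 1) := by
      rw [← card_pointStab K P, ← ho]
      exact (Subgroup.orderOf_mk h hm).symm ▸ orderOf_dvd_natCard (⟨h, hm⟩ : pointStab P)
    rcases hr.dvd_mul.1 hd with h' | h'
    · exact h1 (hr.dvd_of_dvd_pow h')
    · exact h2 h'
  by_cases hvv : H v v = 0
  · obtain ⟨k, hk⟩ := exists_point K P v hv0 hvv
    refine hbad (k⁻¹ * g * k) ?_ ⟨a, ?_⟩
    · rw [← hg]
      exact orderOf_injective (MulAut.conj k⁻¹).toMonoidHom (MulAut.conj k⁻¹).injective g ▸ by simp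
    · rw [app_mul, app_mul, hk, hv, app_smul, ← hk, app_inv]
  -- an anisotropic fixed vector
  have hN : a * K.bar a = 1 := by
    have h := h_app g v v
    rw [hv, h_smul_left K, h_smul_right K, ← mul_assoc] at h
    exact mul_right_cancel₀ hvv (h.trans (one_mul _).symm)
  have ha : a = 1 := by
    have hpow : ∀ i : ℕ, app (g ^ i) v = a ^ i • v := fun i => by
      induction i with
      | zero => rw [pow_zero, app_one, pow_zero, one_smul]
      | succ i ih => rw [pow_succ, app_mul, hv, app_smul, ih, smul_smul, pow_succ, mul_comm]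
    have h3 := hpow r
    rw [← hg, pow_orderOf_eq_one, app_one, hg] at h3
    have har : a ^ r = 1 := smul_left_injective F hv0 (h3.symm.trans (one_smul F v).symm)
    have ha0 : a ≠ 0 := left_ne_zero_of_mul_eq_one hN
    cases nonempty_fintype F
    have hq2 : a ^ (q ^ 2 - 1) = 1 := by
      rw [← K.card, Nat.card_eq_fintype_card]
      exact FiniteField.pow_card_sub_one_eq_one a ha0
    have := pow_gcd_eq_one.2 ⟨har, hq2⟩
    rwa [(hr.coprime_iff_not_dvd.2 h2).gcd_eq_one, pow_one] at this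
  obtain ⟨c, hc⟩ := K.exists_norm (H v v)⁻¹ (by rw [map_inv₀, bar_self K])
  have hc0 : c ≠ 0 := fun e => inv_ne_zero hvv (by rw [← hc, e, zero_mul])
  have hnorm : H (c • v) (c • v) = H (wv : V) wv := by
    rw [h_smul_left K, h_smul_right K, h_ww K, ← mul_assoc, hc, inv_mul_cancel₀ hvv]
  have hw0 : (wv : V) ≠ 0 := fun e => one_ne_zero (α := F) (by rw [← h_ww K, e, h_zero_left K])
  obtain ⟨k, hk⟩ := exists_move_one K (show 3 ≤ 2 + 1 by norm_num) hw0 (smul_ne_zero hc0 hv0) hnorm.symm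
  have hfix : k⁻¹ * g * k ∈ (⊤ : Subgroup G) ⊓ fixW := ⟨trivial, by
    show app (k⁻¹ * g * k) (wv : V) = wv
    rw [app_mul, app_mul, hk, app_smul, hv, ha, one_smul, ← hk, app_inv]⟩
  obtain ⟨φ, hφ⟩ := exists_hom K P (⊤ : Subgroup G)
  have ho : orderOf (φ ⟨_, hfix⟩) = r := by
    rw [orderOf_injective φ hφ, Subgroup.orderOf_mk, ← hg]
    exact orderOf_injective (MulAut.conj k⁻¹).toMonoidHom (MulAut.conj k⁻¹).injective g ▸ by simp
  have hd : r ∣ q * (q ^ 2 - 1) := by
    have := orderOf_dvd_natCard (φ ⟨_, hfix⟩)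
    rw [ho, SL2.card_SL_two', card_F₀ K] at this
    rwa [show q ^ 2 - 1 = (q - 1) * (q + 1) by rw [mul_comm, ← Nat.sq_sub_sq, one_pow]]
  rcases hr.dvd_mul.1 hd with h' | h'
  · exact h1 h'
  · exact h2 h'

theorem not_mem_stab {x : G} (hx : Sing x) (P : HPair (F := F) (q := q) (k := 1)) (k : G) :
    k⁻¹ * x * k ∉ pointStab P := fun ⟨c, hc⟩ => by
  refine app_ne_zero k (v_ne P) (hx c (app k P.v) ?_)
  rw [mat3_mulVec, ← app_smul, ← hc, ← app_mul, ← app_mul]
  congr 1
  group

theorem not_mem_Z {x : G} (hx : Sing x) : x ∉ Z := fun h => by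
  obtain ⟨a, ha⟩ := (scalar_iff K).1 h
  have : (Pi.single 0 1 : Fin 3 → F) = 0 := hx a _ (by rw [ha, smul_mulVec, one_mulVec])
  simpa using congrFun this 0

theorem sing_of_commute {x y : G} (hx : Sing x) (h : y * x = x * y) (hy : y ∉ Z) : Sing y :=
  Cubic.noEig_of_commute hx (commute_iff.1 h) fun a e => hy ((scalar_iff K).2 ⟨a, e⟩)

theorem comm_of_commute {x y z : G} (hx : Sing x) (hy : y * x = x * y) (hz : z * x = x * z) : y * z = z * y :=
  commute_iff.2 (Cubic.commute_of_commute hx (commute_iff.1 hy) (commute_iff.1 hz))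

/-- No prime of the order of a point stabiliser occurs outside the scalars. -/
theorem prime_cent {x y : G} (hx : Sing x) (hy : y * x = x * y) (hyZ : y ∉ Z) {l : ℕ} (hl : l.Prime)
    (hpow : y ^ l ∈ Z) : l ≠ 3 ∧ ¬ l ∣ q ∧ ¬ l ∣ q ^ 2 - 1 := by
  classical
  have hl3 : l ≠ 3 := by
    rintro rfl
    have hs := sing_of_commute K hx hy hyZ
    obtain ⟨a, ha⟩ := (scalar_iff K).1 hpow
    rw [map_pow] at ha
    have hdet := Cubic.det_of_cube hs ha
    rw [show (mat3 y).det = 1 from y.1.2] at hdet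
    rw [← hdet, one_smul] at ha
    have h0 : aeval (mat3 y) (X - C (1 : F)) * aeval (mat3 y) (X ^ 2 + X + C (1 : F)) = 0 := by
      rw [← map_mul, show (X - C (1 : F)) * (X ^ 2 + X + C (1 : F)) = X ^ 3 - C (1 : F) by rw [map_one]; ring, map_sub,
        map_pow, aeval_X, aeval_C, map_one, ha, sub_self]
    have hdeg := charpoly_natDegree_eq_dim (mat3 y)
    rw [Fintype.card_fin] at hdeg
    rcases Cubic.dichotomy hs (X - C (1 : F)) with ⟨hd, -⟩ | hu
    · have := Polynomial.natDegree_le_of_dvd hd (X_sub_C_ne_zero 1)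
      rw [hdeg, natDegree_X_sub_C] at this
      omega
    · have hd := Cubic.dvd_of_aeval hs (hu.mul_right_eq_zero.1 h0)
      have h2 : (X ^ 2 + X + C (1 : F)).natDegree = 2 := by compute_degree!
      have := Polynomial.natDegree_le_of_dvd hd (ne_zero_of_natDegree_gt (n := 1) (by omega))
      omega
  refine ⟨hl3, ?_⟩
  set z := y ^ 3 with hz
  have hzx : z * x = x * z := ((show Commute y x from hy).pow_left 3).eq
  have hzl : z ^ l = 1 := by rw [hz, ← pow_mul, mul_comm, pow_mul]; exact center_pow_three K hpow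
  have hzZ : z ∉ Z := fun h => hyZ (by
    have h1 : ((y : G) : G ⧸ Z) ^ 3 = 1 := by rw [← QuotientGroup.mk_pow]; exact (QuotientGroup.eq_one_iff _).2 h
    have h2 : ((y : G) : G ⧸ Z) ^ l = 1 := by rw [← QuotientGroup.mk_pow]; exact (QuotientGroup.eq_one_iff _).2 hpow
    have := pow_gcd_eq_one.2 ⟨h1, h2⟩
    rw [(Nat.coprime_primes Nat.prime_three hl).2 (Ne.symm hl3) |>.gcd_eq_one, pow_one] at this
    exact (QuotientGroup.eq_one_iff _).1 this)
  have hs := sing_of_commute K hx hzx hzZ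
  have hml : mat3 z ^ l = 1 := by rw [← map_pow, hzl, map_one]
  refine ⟨fun hlq => ?_, fun hlq => ?_⟩
  · -- unipotent
    obtain ⟨p, _⟩ := CharP.exists F
    cases nonempty_fintype F
    obtain ⟨n, hp, hn⟩ := FiniteField.card F p
    rw [← Nat.card_eq_fintype_card, K.card] at hn
    have hlp : l = p := (Nat.prime_dvd_prime_iff_eq hl hp).1 (hl.dvd_of_dvd_pow (hn ▸ dvd_pow hlq two_ne_zero))
    subst hlp
    have := Fact.mk hl
    have h0 : aeval (mat3 z) ((X - C (1 : F)) ^ l) = 0 := by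
      rw [sub_pow_char, map_sub, map_pow, aeval_X, ← C_pow, one_pow, aeval_C, map_one, hml, sub_self]
    rcases Cubic.dichotomy hs (X - C (1 : F)) with ⟨hd, -⟩ | hu
    · have := Polynomial.natDegree_le_of_dvd hd (X_sub_C_ne_zero 1)
      rw [charpoly_natDegree_eq_dim, Fintype.card_fin, natDegree_X_sub_C] at this
      omega
    · rw [map_pow] at h0
      exact not_isUnit_zero (h0 ▸ hu.pow l)
  · obtain ⟨k, hk⟩ := hlq
    have hp1 : mat3 z ^ Nat.card F = mat3 z := by
      have hq := Nat.one_le_pow 2 q (by have := K.two_le; omega)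
      rw [K.card, show q ^ 2 = l * k + 1 by omega, pow_succ, pow_mul, hml, one_pow, one_mul]
    obtain ⟨a, ha⟩ := Cubic.scalar_of_pow hs rfl hp1
    exact hzZ ((scalar_iff K).2 ⟨a, ha⟩)

omit K in
theorem charpoly_conj {R ι : Type*} [CommRing R] [Fintype ι] [DecidableEq ι] (U U' A : Matrix ι ι R)
    (h : U * U' = 1) (h' : U' * U = 1) : (U * A * U').charpoly = A.charpoly := by
  let u : (Matrix ι ι R)ˣ := ⟨U, U', h, h'⟩
  have := Matrix.charpoly_units_conj u A
  have e : ((u⁻¹ : (Matrix ι ι R)ˣ) : Matrix ι ι R) = U' := rfl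
  rw [← Matrix.coe_units_inv, e] at this
  exact this

/-- The conjugates inside a centraliser are at most three. -/
theorem card_conj_le {x : G} (hx : Sing x) :
    Nat.card {y : G // y * x = x * y ∧ ∃ g : G, g * x * g⁻¹ = y} ≤ 3 := by
  classical
  have hmem : ∀ y : {y : G // y * x = x * y ∧ ∃ g : G, g * x * g⁻¹ = y},
      (mat3 y.1).charpoly = (mat3 x).charpoly := fun y => by
    obtain ⟨g, hg⟩ := y.2.2
    rw [← hg, map_mul, map_mul]
    refine charpoly_conj (mat3 g) (mat3 g⁻¹) (mat3 x) ?_ ?_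
    · rw [← map_mul, mul_inv_cancel, map_one]
    · rw [← map_mul, inv_mul_cancel, map_one]
  let f : {y : G // y * x = x * y ∧ ∃ g : G, g * x * g⁻¹ = y} →
      {Y : Matrix (Fin 3) (Fin 3) F // Y * mat3 x = mat3 x * Y ∧ Y.charpoly = (mat3 x).charpoly} :=
    fun y => ⟨mat3 y.1, commute_iff.1 y.2.1, hmem y⟩
  exact le_trans (Nat.card_le_card_of_injective f
    fun a b e => Subtype.ext (mat3_injective (congrArg Subtype.val e :))) (Cubic.card_roots_le hx)

/-- An element whose square centralises does so itself. -/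
theorem no_swap {x g : G} (hx : Sing x) (hc : (g * x * g⁻¹) * x = x * (g * x * g⁻¹))
    (h2 : g * g * x = x * (g * g)) : g * x = x * g := by
  by_contra hne
  set A := mat3 x with hA
  set B := mat3 (g * x * g⁻¹) with hB
  have hAB : B * A = A * B := commute_iff.1 hc
  have e1 : mat3 g * A = B * mat3 g := by rw [hA, hB, ← map_mul, ← map_mul]; congr 1; group
  have e2 : mat3 g * B = A * mat3 g := by
    rw [hA, hB, ← map_mul, ← map_mul]; congr 1
    rw [← mul_assoc, ← mul_assoc, h2, mul_assoc x, mul_inv_cancel_right]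
  have key : ∀ Y : Matrix (Fin 3) (Fin 3) F, Y * A = A * Y → mat3 g * Y = Y * mat3 g → ∃ a : F, Y = a • 1 := by
    intro Y hY hgY
    by_contra hn
    push Not at hn
    exact hne (commute_iff.2 (Cubic.commute_of_commute (Cubic.noEig_of_commute hx hY hn) hgY hY.symm))
  obtain ⟨s, hs⟩ := key (A + B) (by rw [add_mul, mul_add, hAB]) (by rw [mul_add, e1, e2, add_mul, add_comm])
  obtain ⟨t, ht⟩ := key (A * B) (by rw [mul_assoc, hAB]) (by
    rw [← mul_assoc, e1, mul_assoc, e2, ← mul_assoc, hAB])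
  have hq : aeval A (X ^ 2 - C s * X + C t) = 0 := by
    have hs' : B = s • 1 - A := eq_sub_of_add_eq' hs
    rw [hs', mul_sub, Matrix.mul_smul, mul_one] at ht
    rw [map_add, map_sub, map_pow, map_mul, aeval_X, aeval_C, aeval_C, Algebra.algebraMap_eq_smul_one,
      Algebra.algebraMap_eq_smul_one, smul_one_mul, ← ht, pow_two]
    abel
  have h3 : (X ^ 2 - C s * X + C t).natDegree = 2 := by compute_degree!
  have := Polynomial.natDegree_le_of_dvd (Cubic.dvd_of_aeval hx hq) (ne_zero_of_natDegree_gt (n := 1) (by omega))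
  rw [charpoly_natDegree_eq_dim, Fintype.card_fin] at this
  omega

end CfsgLib.MinIndexSU3
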