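import Cfsg.Agent.Lib.MinIndexSU3.Singer

/-!
The centraliser in a subgroup of an element without eigenvectors.
-/

set_option autoImplicit false
set_option linter.unusedSectionVars false

namespace CfsgLib.MinIndexSU3

open Matrix Cfsg CfsgLib.Classical.Herm CfsgLib.Classical.Elation CfsgLib.MinIndexSU
open CfsgLib.ClassicalAut (Unitary.Conj)

variable {F : Type*} [Field F] [Finite F] {q : ℕ} (K : Unitary.Conj F q)

local notation "G" => SU (2 + 1) F q
local notation "Z" => Subgroup.center (SU (2 + 1) F q)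

variable (M : Subgroup (SU (2 + 1) F q))

/-- The centraliser inside the subgroup. -/
def cen (x : G) : Subgroup G := M ⊓ Subgroup.centralizer {x}

/-- Its order modulo scalars. -/
noncomputable def sv (x : G) : ℕ := (Z).relIndex (cen M x)

/-- Its normaliser inside the subgroup. -/
def nor (x : G) : Subgroup G := M ⊓ Subgroup.normalizer (cen M x : Set G)

/-- The conjugates of its non-scalar elements. -/
def cl (x : G) : Set G := {z | z ∉ Z ∧ ∃ g ∈ M, g⁻¹ * z * g ∈ cen M x}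

theorem mem_cen {x y : G} : y ∈ cen M x ↔ y ∈ M ∧ y * x = x * y := by
  rw [cen, Subgroup.mem_inf, Subgroup.mem_centralizer_singleton_iff]

include K

variable {M}
variable {x : SU (2 + 1) F q}

theorem center_le_cen (hZ : Z ≤ M) : Z ≤ cen M x := fun z hz =>
  (mem_cen M).2 ⟨hZ hz, (Subgroup.mem_center_iff.1 hz x).symm⟩

theorem cen_comm (hx : Sing x) {y z : G} (hy : y ∈ cen M x) (hz : z ∈ cen M x) : y * z = z * y :=
  comm_of_commute K hx ((mem_cen M).1 hy).2 ((mem_cen M).1 hz).2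

theorem cen_eq (hx : Sing x) {y : G} (hy : y ∈ cen M x) (hyZ : y ∉ Z) : cen M y = cen M x := by
  obtain ⟨-, hyx⟩ := (mem_cen M).1 hy
  have hys := sing_of_commute K hx hyx hyZ
  ext z
  rw [mem_cen, mem_cen]
  exact ⟨fun h => ⟨h.1, comm_of_commute K hys h.2 hyx.symm⟩, fun h => ⟨h.1, comm_of_commute K hx h.2 hyx⟩⟩

theorem card_cen (hZ : Z ≤ M) : Nat.card (cen M x) = Nat.gcd 3 (q + 1) * sv M x := by
  have h := relIndex_mul_card Z (cen M x)
  rw [inf_eq_left.2 (center_le_cen K hZ), card_Z K] at h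
  rw [← h, sv, mul_comm]

theorem one_lt_sv (hx : Sing x) (hxM : x ∈ M) : 1 < sv M x := by
  rcases Nat.lt_or_ge 1 (sv M x) with h | h
  · exact h
  have h0 : sv M x ≠ 0 := Subgroup.index_ne_zero_of_finite
  exact absurd (Subgroup.relIndex_eq_one.1 (show (Z).relIndex (cen M x) = 1 by rw [sv] at h h0; omega)
    ((mem_cen M).2 ⟨hxM, rfl⟩)) (not_mem_Z K hx)

theorem prime_dvd_sv (hx : Sing x) {l : ℕ} (hl : l.Prime) (h : l ∣ sv M x) :
    l ≠ 3 ∧ ¬ l ∣ q ∧ ¬ l ∣ q ^ 2 - 1 := by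
  have := Fact.mk hl
  rw [sv, Subgroup.relIndex, Subgroup.index_eq_card] at h
  obtain ⟨t, ht⟩ : ∃ t : cen M x ⧸ (Z).subgroupOf (cen M x), orderOf t = l := exists_prime_orderOf_dvd_card' l h
  induction t using QuotientGroup.induction_on with | _ y =>
  have h1 : (y : G) ∉ Z := fun e => by
    rw [(QuotientGroup.eq_one_iff (N := (Z).subgroupOf (cen M x)) y).2 e, orderOf_one] at ht
    exact hl.one_lt.ne ht
  have h2 := pow_orderOf_eq_one (y : cen M x ⧸ (Z).subgroupOf (cen M x))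
  rw [ht, ← QuotientGroup.mk_pow, QuotientGroup.eq_one_iff, Subgroup.mem_subgroupOf] at h2
  exact prime_cent K hx ((mem_cen M).1 y.2).2 h1 hl h2

theorem sv_dvd (hx : Sing x) (hZ : Z ≤ M) : sv M x ∣ nn q := by
  have h1 : Nat.gcd 3 (q + 1) * sv M x ∣
      Nat.gcd 3 (q + 1) * (q ^ 3 * ((q ^ 2 - 1) * (q + 1)) * nn q) := by
    rw [← card_cen K hZ]
    refine (Subgroup.card_subgroup_dvd_card _).trans (dvd_of_eq ?_)
    rw [card_G K, cube_add_one (by have := K.two_le; omega), ← gcd_mul_nn]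
    ring
  refine (Nat.Coprime.dvd_of_dvd_mul_left ?_ ((Nat.mul_dvd_mul_iff_left (Nat.gcd_pos_of_pos_left _ three_pos)).1 h1))
  refine Nat.coprime_of_dvd fun l hl hls hlA => ?_
  obtain ⟨-, hq, hq2⟩ := prime_dvd_sv K hx hl hls
  rcases hl.dvd_mul.1 hlA with h | h
  · exact hq (hl.dvd_of_dvd_pow h)
  rcases hl.dvd_mul.1 h with h | h
  · exact hq2 h
  · refine hq2 (h.trans ⟨q - 1, ?_⟩)
    rw [← Nat.sq_sub_sq, one_pow]

theorem sv_coprime_three (hx : Sing x) : Nat.Coprime (sv M x) 3 := by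
  refine Nat.coprime_of_dvd fun l hl hls h3 => ?_
  exact (prime_dvd_sv K hx hl hls).1 ((Nat.prime_dvd_prime_iff_eq hl Nat.prime_three).1 h3)

theorem eq_one_of_pow {z : G} (hx : Sing x) (hz : z ∈ Z) (hs : z ^ sv M x = 1) : z = 1 := by
  have := pow_gcd_eq_one.2 ⟨hs, center_pow_three K hz⟩
  rwa [(sv_coprime_three K hx).gcd_eq_one, pow_one] at this

theorem cen_le_nor : cen M x ≤ nor M x := le_inf inf_le_left Subgroup.le_normalizer

theorem conj_mem_cen {g : G} (hg : g ∈ nor M x) {y : G} : y ∈ cen M x ↔ g * y * g⁻¹ ∈ cen M x :=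
  Subgroup.mem_normalizer_iff.1 hg.2 y

theorem mem_cen_conj {g : G} (hg : g ∈ M) {y z : G} : z ∈ cen M (g * y * g⁻¹) ↔ g⁻¹ * z * g ∈ cen M y := by
  rw [mem_cen, mem_cen]
  refine and_congr ⟨fun h => M.mul_mem (M.mul_mem (M.inv_mem hg) h) hg, fun h => ?_⟩ ⟨fun h => ?_, fun h => ?_⟩
  · have := M.mul_mem (M.mul_mem hg h) (M.inv_mem hg)
    rwa [show g * (g⁻¹ * z * g) * g⁻¹ = z by group] at this
  · calc g⁻¹ * z * g * y = g⁻¹ * (z * (g * y * g⁻¹)) * g := by group
      _ = _ := by rw [h]; group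
  · calc z * (g * y * g⁻¹) = g * ((g⁻¹ * z * g) * y) * g⁻¹ := by group
      _ = _ := by rw [h]; group

/-- Trivial intersection. -/
theorem mem_nor_of_meet (hx : Sing x) {g : G} (hg : g ∈ M) {y : G} (hy : y ∈ cen M x) (hyZ : y ∉ Z)
    (hgy : g * y * g⁻¹ ∈ cen M x) : g ∈ nor M x := by
  have hyZ' : g * y * g⁻¹ ∉ Z := fun h => hyZ (by
    have := (inferInstance : (Z).Normal).conj_mem _ h g⁻¹
    rwa [show g⁻¹ * (g * y * g⁻¹) * g⁻¹⁻¹ = y by group] at this)
  have h1 := cen_eq K hx hgy hyZ'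
  have h2 := cen_eq K hx hy hyZ
  refine ⟨hg, Subgroup.mem_normalizer_iff.2 fun z => ?_⟩
  conv_rhs => rw [← h1, mem_cen_conj K hg, show g⁻¹ * (g * z * g⁻¹) * g = z by group, h2]

theorem nor_index (hx : Sing x) (hxM : x ∈ M) :
    (cen M x).relIndex (nor M x) = 1 ∨ (cen M x).relIndex (nor M x) = 3 := by
  classical
  have hxc : x ∈ cen M x := (mem_cen M).2 ⟨hxM, rfl⟩
  have hle : (cen M x).relIndex (nor M x) ≤ 3 := by
    refine le_trans ?_ (card_conj_le K hx)
    rw [Subgroup.relIndex, Subgroup.index_eq_card]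
    let f : nor M x ⧸ (cen M x).subgroupOf (nor M x) → {y : G // y * x = x * y ∧ ∃ g : G, g * x * g⁻¹ = y} :=
      fun t => ⟨(t.out : G) * x * (t.out : G)⁻¹, ((mem_cen M).1 ((conj_mem_cen K t.out.2).1 hxc)).2, _, rfl⟩
    refine Nat.card_le_card_of_injective f fun a b e => ?_
    have e' : (a.out : G) * x * (a.out : G)⁻¹ = (b.out : G) * x * (b.out : G)⁻¹ := congrArg Subtype.val e
    rw [← Quotient.out_eq a, ← Quotient.out_eq b]
    refine QuotientGroup.eq.2 (Subgroup.mem_subgroupOf.2 ((mem_cen M).2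
      ⟨M.mul_mem (M.inv_mem a.out.2.1) b.out.2.1, ?_⟩))
    show ((a.out : G)⁻¹ * b.out) * x = x * ((a.out : G)⁻¹ * b.out)
    calc _ = (a.out : G)⁻¹ * ((b.out : G) * x * (b.out : G)⁻¹) * b.out := by group
      _ = _ := by rw [← e']; group
  have h0 : (cen M x).relIndex (nor M x) ≠ 0 := Subgroup.index_ne_zero_of_finite
  by_contra hc
  have h2 : ((cen M x).subgroupOf (nor M x)).index = 2 := by
    show (cen M x).relIndex (nor M x) = 2
    omega
  obtain ⟨g, hg⟩ : ∃ g : nor M x, g ∉ (cen M x).subgroupOf (nor M x) := by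
    by_contra hall
    push Not at hall
    rw [show (cen M x).subgroupOf (nor M x) = ⊤ from eq_top_iff.2 fun g _ => hall g, Subgroup.index_top] at h2
    omega
  have hgg : (g : G) * g ∈ cen M x :=
    Subgroup.mul_self_mem_of_index_two h2 g
  refine hg (Subgroup.mem_subgroupOf.2 ((mem_cen M).2 ⟨g.2.1, no_swap K hx ?_ ((mem_cen M).1 hgg).2⟩))
  exact ((mem_cen M).1 ((conj_mem_cen K g.2).1 hxc)).2

/-- Semiregularity on the other conjugates. -/
theorem sv_dvd_conj (hx : Sing x) (hxM : x ∈ M) (hZ : Z ≤ M) : sv M x ∣ (nor M x).relIndex M - 1 := by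
  classical
  set X := cen M x with hX
  let ψ : X →* X := MonoidHom.mk' (fun y => y ^ 3) fun a b =>
    (show Commute a b from Subtype.ext (cen_comm K hx a.2 b.2)).mul_pow 3
  have hker : ψ.ker = (Z).subgroupOf X := by
    ext y
    rw [MonoidHom.mem_ker, Subgroup.mem_subgroupOf]
    refine ⟨fun h => ?_, fun h => Subtype.ext (center_pow_three K h)⟩
    by_contra hyZ
    exact (prime_cent K hx ((mem_cen M).1 y.2).2 hyZ Nat.prime_three
      (by rw [show ((y : G)) ^ 3 = 1 from congrArg Subtype.val h]; exact one_mem _)).1 rfl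
  have hC : Nat.card ψ.range = sv M x := by rw [← Subgroup.index_ker ψ, hker]; rfl
  set N := (nor M x).subgroupOf M with hN
  set o : M ⧸ N := ((1 : M) : M ⧸ N) with ho
  let act : MulAction ψ.range {t : M ⧸ N // t ≠ o} :=
    { smul := fun c t => ⟨(⟨((c : X) : G), (c : X).2.1⟩ : M) • t.1, fun e => t.2 (by
        have e' : t.1 = (⟨((c : X) : G), (c : X).2.1⟩ : M)⁻¹ • o := eq_inv_smul_iff.2 e
        rw [e', ho, MulAction.Quotient.smul_coe, smul_eq_mul]
        refine QuotientGroup.eq.2 (Subgroup.mem_subgroupOf.2 ?_)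
        simpa using (cen_le_nor K ((cen M x).mul_mem (c : X).2 (cen M x).one_mem)))⟩
      one_smul := fun t => Subtype.ext (one_smul M t.1)
      mul_smul := fun a b t => Subtype.ext (mul_smul (⟨((a : X) : G), (a : X).2.1⟩ : M) ⟨((b : X) : G), (b : X).2.1⟩ t.1) }
  have hfree : ∀ t : {t : M ⧸ N // t ≠ o}, ∀ c : ψ.range, c • t = t → c = 1 := by
    rintro ⟨t, ht⟩ c e
    induction t using QuotientGroup.induction_on with | _ g =>
    have e' : ((⟨((c : X) : G), (c : X).2.1⟩ * g : M) : M ⧸ N) = (g : M ⧸ N) := congrArg Subtype.val e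
    have hm : (g : G)⁻¹ * ((c : X) : G) * g ∈ nor M x := by
      have := Subgroup.mem_subgroupOf.1 (QuotientGroup.eq.1 e'.symm)
      simpa [mul_assoc] using this
    have hcs : ((c : X) : G) ^ sv M x = 1 := by
      have h : c ^ Nat.card ψ.range = 1 := pow_card_eq_one'
      rw [hC] at h
      exact congrArg (fun z : ψ.range => ((z : X) : G)) h
    by_contra hc
    have hcZ : ((c : X) : G) ∉ Z := fun h => hc (Subtype.ext (Subtype.ext (eq_one_of_pow K hx h hcs)))
    -- a power prime to the index lies in the centraliser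
    have hm' : (g : G)⁻¹ * ((c : X) : G) * g ∈ cen M x := by
      let S := (cen M x).subgroupOf (nor M x)
      have : S.Normal := ⟨fun a ha b => Subgroup.mem_subgroupOf.2 (by
        simpa using (conj_mem_cen K b.2).1 (Subgroup.mem_subgroupOf.1 ha))⟩
      have h1 : (⟨_, hm⟩ : nor M x) ^ S.index ∈ S := S.pow_index_mem _
      have h2 : (⟨_, hm⟩ : nor M x) ^ sv M x = 1 := Subtype.ext (by
        show ((g : G)⁻¹ * ((c : X) : G) * g) ^ sv M x = 1
        have := conj_pow (i := sv M x) (a := (g : G)⁻¹) (b := ((c : X) : G))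
        rw [inv_inv] at this
        rw [this, hcs, mul_one, inv_mul_cancel])
      have hcop : Nat.Coprime S.index (sv M x) := by
        rcases nor_index K hx hxM with h | h <;> rw [show S.index = (cen M x).relIndex (nor M x) from rfl, h]
        · exact Nat.coprime_one_left _
        · exact (sv_coprime_three K hx).symm
      have h3 : (⟨_, hm⟩ : nor M x) ∈ S := by
        have := Nat.gcd_eq_gcd_ab S.index (sv M x)
        rw [hcop.gcd_eq_one] at this
        rw [← zpow_one (⟨_, hm⟩ : nor M x), show (1 : ℤ) = _ from this, _root_.zpow_add, _root_.zpow_mul, _root_.zpow_mul,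
          zpow_natCast, zpow_natCast, h2, _root_.one_zpow, mul_one]
        exact S.zpow_mem h1 _
      exact h3
    have hcZ' : (g : G)⁻¹ * ((c : X) : G) * g ∉ Z := fun h => hcZ (by
      have := (inferInstance : (Z).Normal).conj_mem _ h (g : G)
      rwa [show (g : G) * ((g : G)⁻¹ * ((c : X) : G) * g) * (g : G)⁻¹ = ((c : X) : G) by group] at this)
    have hgn := mem_nor_of_meet K hx g.2 hm' hcZ' (by
      rw [show (g : G) * ((g : G)⁻¹ * ((c : X) : G) * g) * (g : G)⁻¹ = ((c : X) : G) by group]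
      exact (c : X).2)
    refine ht (QuotientGroup.eq.2 (Subgroup.mem_subgroupOf.2 ?_))
    simpa using hgn
  have := SL2.Census.card_dvd_of_free hfree
  rwa [hC, show Nat.card {t : M ⧸ N // t ≠ o} = N.index - 1 by
    have : Fintype (M ⧸ N) := Fintype.ofFinite _
    rw [Subgroup.index_eq_card, Nat.card_eq_fintype_card, Nat.card_eq_fintype_card, Fintype.card_subtype_compl,
      Fintype.card_subtype_eq]] at this

/-- The index of the centraliser in the subgroup. -/
theorem card_eq (hZ : Z ≤ M) :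
    (nor M x).relIndex M * (cen M x).relIndex (nor M x) * (Nat.gcd 3 (q + 1) * sv M x) = Nat.card M := by
  have h1 := Subgroup.relIndex_mul_relIndex (cen M x) (nor M x) M (cen_le_nor K) inf_le_left
  have h2 := relIndex_mul_card (cen M x) M
  rw [inf_eq_left.2 (show cen M x ≤ M from inf_le_left), card_cen K hZ, ← h1] at h2
  rw [← h2]
  ring

/-- The primes of the centraliser occur fully. -/
theorem not_dvd_index (hx : Sing x) {l : ℕ} (hl : l.Prime) (h : l ∣ sv M x) (hZ : Z ≤ M) :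
    ¬ l ∣ (cen M x).relIndex M := by
  classical
  have := Fact.mk hl
  obtain ⟨hl3, -, -⟩ := prime_dvd_sv K hx hl h
  have hl' : ∀ z : G, ∀ k, z ^ l ^ k = 1 → z ∈ Z → z = 1 := fun z k hz hzZ => by
    have := pow_gcd_eq_one.2 ⟨hz, center_pow_three K hzZ⟩
    rwa [((Nat.coprime_primes hl Nat.prime_three).2 hl3).pow_left k |>.gcd_eq_one, pow_one] at this
  obtain ⟨⟨y, hy⟩, hyo⟩ : ∃ t : cen M x, orderOf t = l := exists_prime_orderOf_dvd_card' l
    ((h.trans (dvd_mul_left _ _)).trans (dvd_of_eq (card_cen K hZ).symm))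
  rw [Subgroup.orderOf_mk] at hyo
  have hyZ : y ∉ Z := fun hZ' => by
    rw [hl' y 1 (by rw [pow_one, ← hyo, pow_orderOf_eq_one]) hZ', orderOf_one] at hyo
    exact hl.one_lt.ne hyo
  have hP : IsPGroup l (Subgroup.zpowers (⟨y, hy.1⟩ : M)) :=
    IsPGroup.of_card (n := 1) (by rw [Nat.card_zpowers, Subgroup.orderOf_mk, hyo, pow_one])
  obtain ⟨R, hR⟩ := hP.exists_le_sylow
  have hyR : (⟨y, hy.1⟩ : M) ∈ (R : Subgroup M) := hR (Subgroup.mem_zpowers _)
  have : Nontrivial (R : Subgroup M) := ⟨⟨⟨_, hyR⟩, 1, fun e => hyZ (by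
    rw [show y = 1 from congrArg (fun z : (R : Subgroup M) => ((z : M) : G)) e]; exact one_mem _)⟩⟩
  have := R.2.center_nontrivial
  obtain ⟨z, hz⟩ := exists_ne (1 : Subgroup.center (R : Subgroup M))
  set z' : G := (((z : (R : Subgroup M)) : M) : G) with hz'
  have hcomm : ∀ r : (R : Subgroup M), ((r : M) : G) * z' = z' * ((r : M) : G) := fun r =>
    congrArg (fun w : (R : Subgroup M) => ((w : M) : G)) (Subgroup.mem_center_iff.1 z.2 r)
  have hzc : z' ∈ cen M x := cen_eq K hx hy hyZ ▸ (mem_cen M).2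
    ⟨((z : (R : Subgroup M)) : M).2, (hcomm ⟨⟨y, hy.1⟩, hyR⟩).symm⟩
  have hzZ : z' ∉ Z := fun hZ' => hz (by
    obtain ⟨k, hk⟩ := R.2 (z : (R : Subgroup M))
    have := hl' z' k (congrArg (fun w : (R : Subgroup M) => ((w : M) : G)) hk) hZ'
    exact Subtype.ext (Subtype.ext (Subtype.ext this)))
  have hle : (R : Subgroup M) ≤ (cen M x).subgroupOf M := fun r hr =>
    Subgroup.mem_subgroupOf.2 (cen_eq K hx hzc hzZ ▸ (mem_cen M).2 ⟨r.2, hcomm ⟨r, hr⟩⟩)
  exact fun hd => R.not_dvd_index (hd.trans (Subgroup.index_dvd_of_le hle))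

/-- The conjugates cover enough elements. -/
theorem card_cl (hx : Sing x) (hZ : Z ≤ M) :
    (nor M x).relIndex M * ((sv M x - 1) * Nat.gcd 3 (q + 1)) ≤ (cl M x).ncard := by
  classical
  set N := (nor M x).subgroupOf M
  have hc : Nat.card {y : cen M x // (y : G) ∉ Z} = (sv M x - 1) * Nat.gcd 3 (q + 1) := by
    have : Fintype (cen M x) := Fintype.ofFinite _
    have hz : Nat.card {y : cen M x // (y : G) ∈ Z} = Nat.gcd 3 (q + 1) := by
      rw [← card_Z K]
      exact Nat.card_congr (Subgroup.subgroupOfEquivOfLe (center_le_cen K hZ)).toEquiv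
    rw [Nat.card_eq_fintype_card, Fintype.card_subtype_compl, ← Nat.card_eq_fintype_card, card_cen K hZ,
      ← Nat.card_eq_fintype_card, hz, Nat.sub_one_mul, mul_comm]
  rw [← hc, show (nor M x).relIndex M = Nat.card (M ⧸ N) from Subgroup.index_eq_card _, ← Nat.card_prod,
    ← Nat.card_coe_set_eq]
  have hmem : ∀ p : (M ⧸ N) × {y : cen M x // (y : G) ∉ Z},
      (p.1.out : G) * ((p.2 : cen M x) : G) * (p.1.out : G)⁻¹ ∈ cl M x := fun p => by
    refine ⟨fun h => p.2.2 ?_, p.1.out, p.1.out.2, ?_⟩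
    · have := (inferInstance : (Z).Normal).conj_mem _ h (p.1.out : G)⁻¹
      simpa [mul_assoc] using this
    · simpa [mul_assoc] using (p.2 : cen M x).2
  refine Nat.card_le_card_of_injective (fun p => (⟨_, hmem p⟩ : cl M x)) fun a b e => ?_
  have e' : (a.1.out : G) * ((a.2 : cen M x) : G) * (a.1.out : G)⁻¹ =
      (b.1.out : G) * ((b.2 : cen M x) : G) * (b.1.out : G)⁻¹ := congrArg Subtype.val e
  have h1 : ((b.1.out : G)⁻¹ * a.1.out) * ((a.2 : cen M x) : G) * ((b.1.out : G)⁻¹ * a.1.out)⁻¹ ∈ cen M x := by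
    rw [show ((b.1.out : G)⁻¹ * a.1.out) * ((a.2 : cen M x) : G) * ((b.1.out : G)⁻¹ * a.1.out)⁻¹ =
      (b.1.out : G)⁻¹ * ((a.1.out : G) * ((a.2 : cen M x) : G) * (a.1.out : G)⁻¹) * b.1.out by group, e']
    simpa [mul_assoc] using (b.2 : cen M x).2
  have h2 := mem_nor_of_meet K hx (M.mul_mem (M.inv_mem b.1.out.2) a.1.out.2) (a.2 : cen M x).2 a.2.2 h1
  have h3 : b.1 = a.1 := by
    rw [← Quotient.out_eq b.1, ← Quotient.out_eq a.1]
    exact QuotientGroup.eq.2 (Subgroup.mem_subgroupOf.2 h2)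
  rw [h3] at e'
  exact Prod.ext h3.symm (Subtype.ext (Subtype.ext (mul_left_cancel (mul_right_cancel e'))))

theorem cl_subset : cl M x ⊆ M := fun z ⟨_, g, hg, h⟩ => by
  have := M.mul_mem (M.mul_mem hg h.1) (M.inv_mem hg)
  rwa [show g * (g⁻¹ * z * g) * g⁻¹ = z by group] at this

theorem cl_disjoint (hZ : Z ≤ M) {x' : G} (hx : Sing x) (hx' : Sing x') (hne : sv M x ≠ sv M x') :
    Disjoint (cl M x) (cl M x') := by
  rw [Set.disjoint_left]
  rintro z ⟨hzZ, g, hg, hgz⟩ ⟨-, g', hg', hgz'⟩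
  have hnz : ∀ k : G, k⁻¹ * z * k ∉ Z := fun k h => hzZ (by
    have := (inferInstance : (Z).Normal).conj_mem _ h k
    rwa [show k * (k⁻¹ * z * k) * k⁻¹ = z by group] at this)
  have e : ∀ {w : G}, Sing w → ∀ {k : G}, k ∈ M → k⁻¹ * z * k ∈ cen M w →
      Nat.card (cen M w) = Nat.card (cen M z) := fun {w} hw {k} hk hkz => by
    rw [← cen_eq K hw hkz (hnz k)]
    refine Nat.card_congr ((MulAut.conj k).toEquiv.subtypeEquiv fun y => ?_)
    show y ∈ cen M (k⁻¹ * z * k) ↔ k * y * k⁻¹ ∈ cen M z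
    conv_lhs => rw [show k⁻¹ * z * k = k⁻¹ * z * k⁻¹⁻¹ by group, mem_cen_conj K (M.inv_mem hk), inv_inv]
  have h := (e hx hg hgz).trans (e hx' hg' hgz').symm
  rw [card_cen K hZ, card_cen K hZ] at h
  exact hne (Nat.eq_of_mul_eq_mul_left (Nat.gcd_pos_of_pos_left _ three_pos) h)

theorem cl_no_fix (hx : Sing x) (P : HPair (F := F) (q := q) (k := 1)) {z : G} (hz : z ∈ cl M x) (k : G) :
    k⁻¹ * z * k ∉ pointStab P := by
  obtain ⟨hzZ, g, hg, hgz⟩ := hz
  have hw : g⁻¹ * z * g ∉ Z := fun h => hzZ (by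
    have := (inferInstance : (Z).Normal).conj_mem _ h g
    rwa [show g * (g⁻¹ * z * g) * g⁻¹ = z by group] at this)
  have := not_mem_stab K (sing_of_commute K hx ((mem_cen M).1 hgz).2 hw) P (g⁻¹ * k)
  rwa [show (g⁻¹ * k)⁻¹ * (g⁻¹ * z * g) * (g⁻¹ * k) = k⁻¹ * z * k by group] at this

end CfsgLib.MinIndexSU3
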